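import Groth.Agent.EtDual.K658.TiltVal

/-!
# Fontaine's map for absolutely integrally closed valuation rings

`C` as in `K658.TiltVal`, `V = PreTilt C p`, `θ = fontaineTheta C p : 𝕎 V → C`.

* `surjective`, `ker_eq`, `quotEquiv`: `θ` is onto with kernel `ξ`, for every `ξ = [a] + p η` in the kernel with `η` a
  unit;
* `adj`: for `B` perfect of characteristic `p` and `g : 𝕎 B → C` there is a unique `h : B → V` with `θ ∘ 𝕎 h = g`;
* `mapT`: functoriality.
-/

set_option autoImplicit false
universe u v

open Polynomial Groth.Agent.Flat2E.AIC1 PreTilt Ideal WittVector K658.TiltVal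

namespace K658.TiltTheta

section ker

variable {C : Type u} [CommRing C] [IsDomain C] [ValuationRing C] {p : ℕ} [Fact p.Prime] [Fact (¬ IsUnit (p : C))]
  [IsAdicComplete (Ideal.span {(p : C)}) C] (hC : IsAIC C)

include hC in
theorem surjective : Function.Surjective (fontaineTheta C p) :=
  surjective_fontaineTheta (frobenius_modP_surjective hC)

omit [IsDomain C] [ValuationRing C] in
theorem exists_decomp (y : WittVector p (PreTilt C p)) :
    ∃ z, y = teichmuller p (y.coeff 0) + p * z := by
  have h1 : y - teichmuller p (y.coeff 0) ∈ Ideal.span {(p : WittVector p (PreTilt C p))} := by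
    rw [mem_span_p_iff_coeff_zero_eq_zero]
    have h2 := map_sub (constantCoeff (p := p) (R := PreTilt C p)) y (teichmuller p (y.coeff 0))
    simp only [WittVector.constantCoeff_apply, teichmuller_coeff_zero, sub_self] at h2
    exact h2
  obtain ⟨z, hz⟩ := Ideal.mem_span_singleton.mp h1
  exact ⟨z, by rw [← hz]; ring⟩

variable (a : PreTilt C p) (η : (WittVector p (PreTilt C p))ˣ)
  (hξ : fontaineTheta C p (teichmuller p a + p * η) = 0)

include hξ

omit [IsDomain C] [ValuationRing C] in
theorem untilt_eq : untilt a = - (p * fontaineTheta C p η) := by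
  rw [map_add, fontaineTheta_teichmuller, map_mul, map_natCast] at hξ
  exact eq_neg_of_add_eq_zero_left hξ

omit [IsDomain C] [ValuationRing C] in
theorem associated : Associated (untilt a) (p : C) := by
  rw [untilt_eq a η hξ]
  exact (Associated.neg_left_iff.mpr (associated_mul_unit_left _ _ (η.isUnit.map (fontaineTheta C p))))

theorem exists_step (hp : (p : C) ≠ 0) (y : WittVector p (PreTilt C p)) (hy : fontaineTheta C p y = 0) :
    ∃ b z : WittVector p (PreTilt C p), y = (teichmuller p a + p * η) * b + p * z ∧ fontaineTheta C p z = 0 := by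
  obtain ⟨z, hz⟩ := exists_decomp y
  have h1 : untilt (y.coeff 0) = - (p * fontaineTheta C p z) := by
    have h2 := hy
    rw [hz, map_add, fontaineTheta_teichmuller, map_mul, map_natCast] at h2
    exact eq_neg_of_add_eq_zero_left h2
  have h3 : untilt a ∣ untilt (y.coeff 0) := by
    rw [(associated a η hξ).dvd_iff_dvd_left, h1]
    exact (dvd_mul_right _ _).neg_right
  obtain ⟨b, hb⟩ := (dvd_iff _ _).mpr h3
  refine ⟨teichmuller p b, z - η * teichmuller p b, ?_, ?_⟩
  · conv_lhs => rw [hz, hb, map_mul]
    ring
  · have h4 : (p : C) * fontaineTheta C p (z - η * teichmuller p b) = 0 := by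
      have h5 : (p : WittVector p (PreTilt C p)) * (z - η * teichmuller p b) =
          y - (teichmuller p a + p * η) * teichmuller p b := by
        conv_rhs => rw [hz, hb, map_mul]
        ring
      have h6 := congrArg (fontaineTheta C p) h5
      rw [map_mul, map_natCast, map_sub _ y, hy, map_mul _ (_ + _), hξ, zero_mul, sub_zero] at h6
      exact h6
    exact (mul_eq_zero.mp h4).resolve_left hp

/-- **The kernel of Fontaine's map.** -/
theorem ker_eq : RingHom.ker (fontaineTheta C p) = Ideal.span {teichmuller p a + p * (η : WittVector p (PreTilt C p))} := by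
  apply le_antisymm
  · intro y hy
    rw [RingHom.mem_ker] at hy
    rw [Ideal.mem_span_singleton]
    set ξ : WittVector p (PreTilt C p) := teichmuller p a + p * η with hξdef
    by_cases hp : (p : C) = 0
    · have ha : a = 0 := by
        rw [← untilt_eq_zero_iff, untilt_eq a η hξ, hp, zero_mul, neg_zero]
      obtain ⟨z, hz⟩ := exists_decomp y
      have h1 : y.coeff 0 = 0 := by
        have h2 := hy
        rw [hz, map_add, fontaineTheta_teichmuller, map_mul, map_natCast, hp, zero_mul, add_zero,
          untilt_eq_zero_iff] at h2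
        exact h2
      rw [hz, h1, hξdef, ha, WittVector.teichmuller_zero, zero_add, zero_add]
      exact mul_dvd_mul_left _ (η.isUnit.dvd)
    choose! b z h1 h2 using fun y hy => exists_step a η hξ hp y hy
    let Y : ℕ → WittVector p (PreTilt C p) := fun n => z^[n] y
    have hY : ∀ n, fontaineTheta C p (Y n) = 0 := by
      intro n
      induction n with
      | zero => exact hy
      | succ n ih =>
        change fontaineTheta C p (z^[n + 1] y) = 0
        rw [Function.iterate_succ_apply']
        exact h2 _ ih
    let s : ℕ → WittVector p (PreTilt C p) := fun n => ∑ i ∈ Finset.range n, (p : WittVector p (PreTilt C p)) ^ i * b (Y i)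
    have hs : ∀ n, y = ξ * s n + p ^ n * Y n := by
      intro n
      induction n with
      | zero => simp [s, Y]
      | succ n ih =>
        have h3 : Y n = ξ * b (Y n) + p * Y (n + 1) := by
          have h4 := h1 (Y n) (hY n)
          rw [← hξdef] at h4
          conv_lhs => rw [h4]
          change _ = _ + p * z^[n + 1] y
          rw [Function.iterate_succ_apply']
        have h5 : s (n + 1) = s n + (p : WittVector p (PreTilt C p)) ^ n * b (Y n) := Finset.sum_range_succ _ _
        rw [h5]
        conv_lhs => rw [ih, h3]
        ring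
    obtain ⟨t, ht⟩ := IsPrecomplete.prec
      (inferInstance : IsPrecomplete (Ideal.span {(p : WittVector p (PreTilt C p))}) (WittVector p (PreTilt C p)))
      (f := s) (by
        intro m n hmn
        rw [SModEq.sub_mem, smul_eq_mul, Ideal.mul_top, Ideal.span_singleton_pow, Ideal.mem_span_singleton]
        rw [← neg_sub, dvd_neg]
        change _ ∣ ∑ i ∈ Finset.range n, _ - ∑ i ∈ Finset.range m, _
        rw [Finset.sum_range_sub_sum_range hmn]
        exact Finset.dvd_sum fun i hi => Dvd.dvd.mul_right (pow_dvd_pow _ (Finset.mem_filter.mp hi).2) _)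
    refine ⟨t, ?_⟩
    rw [← sub_eq_zero]
    refine IsHausdorff.haus
      (inferInstance : IsHausdorff (Ideal.span {(p : WittVector p (PreTilt C p))}) (WittVector p (PreTilt C p))) _
      fun n => ?_
    have h3 := ht n
    rw [SModEq.sub_mem, smul_eq_mul, Ideal.mul_top, Ideal.span_singleton_pow, Ideal.mem_span_singleton] at h3
    rw [SModEq.sub_mem, sub_zero, smul_eq_mul, Ideal.mul_top, Ideal.span_singleton_pow, Ideal.mem_span_singleton]
    have h4 : y - ξ * t = ξ * (s n - t) + p ^ n * Y n := by
      conv_lhs => rw [hs n]
      ring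
    rw [h4]
    exact dvd_add (h3.mul_left _) (dvd_mul_right _ _)
  · rw [Ideal.span_singleton_le_iff_mem, RingHom.mem_ker]
    exact hξ

/-- `𝕎 V / ξ = C`. -/
noncomputable def quotEquiv (hC : IsAIC C) :
    WittVector p (PreTilt C p) ⧸ Ideal.span {teichmuller p a + p * (η : WittVector p (PreTilt C p))} ≃+* C :=
  (Ideal.quotEquivOfEq (ker_eq a η hξ).symm).trans
    (RingHom.quotientKerEquivOfSurjective (surjective hC))

theorem quotEquiv_mk (hC : IsAIC C) (x : WittVector p (PreTilt C p)) :
    quotEquiv a η hξ hC (Ideal.Quotient.mk _ x) = fontaineTheta C p x := rfl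

end ker

section adj

variable {C : Type u} [CommRing C] {p : ℕ} [Fact p.Prime] [Fact (¬ IsUnit (p : C))]
  [IsAdicComplete (Ideal.span {(p : C)}) C] {B : Type v} [CommRing B] [CharP B p] [PerfectRing B p]
  (g : WittVector p B →+* C)

/-- The reduction of `g` modulo `p`. -/
noncomputable def red : B →+* ModP C p where
  toFun b := Ideal.Quotient.mk _ (g (teichmuller p b))
  map_one' := by rw [map_one, map_one, map_one]
  map_mul' x y := by rw [map_mul, map_mul, map_mul]
  map_zero' := by rw [WittVector.teichmuller_zero, map_zero, map_zero]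
  map_add' x y := by
    have h1 : teichmuller p (x + y) - (teichmuller p x + teichmuller p y) ∈ Ideal.span {(p : WittVector p B)} := by
      rw [mem_span_p_iff_coeff_zero_eq_zero]
      have h2 := map_sub (constantCoeff (p := p) (R := B)) (teichmuller p (x + y)) (teichmuller p x + teichmuller p y)
      have h3 := map_add (constantCoeff (p := p) (R := B)) (teichmuller p x) (teichmuller p y)
      rw [h3] at h2
      simp only [WittVector.constantCoeff_apply, teichmuller_coeff_zero, sub_self] at h2
      exact h2
    obtain ⟨z, hz⟩ := Ideal.mem_span_singleton.mp h1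
    rw [← map_add, ← map_add, Ideal.Quotient.eq, ← map_sub, hz, map_mul, map_natCast, Ideal.mem_span_singleton]
    exact dvd_mul_right _ _

/-- The map `B → V` adjoint to `g : 𝕎 B → C`. -/
noncomputable def adj : B →+* PreTilt C p := Perfection.lift p B (ModP C p) (red g)

theorem coeff_adj (b : B) (n : ℕ) : PreTilt.coeff n (adj g b) =
    (Ideal.Quotient.mk (Ideal.span {(p : C)}) (g (teichmuller p ((frobeniusEquiv B p).symm^[n] b))) : ModP C p) := rfl

theorem adj_eq (b : B) : adj g b = ofSeq (fun n => g (teichmuller p ((frobeniusEquiv B p).symm^[n] b)))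
    (fun n => by rw [← map_pow, ← map_pow, Function.iterate_succ_apply', frobeniusEquiv_symm_pow_p]) :=
  ext_coeff fun _ => rfl

theorem untilt_adj (b : B) : untilt (adj g b) = g (teichmuller p b) := by
  rw [adj_eq, untilt_ofSeq]
  rfl

theorem theta_adj : (fontaineTheta C p).comp (WittVector.map (adj g)) = g := by
  refine RingHom.ext fun x => ?_
  rw [IsHausdorff.eq_iff_smodEq (I := Ideal.span {(p : C)})]
  intro n
  rw [smul_eq_mul, Ideal.mul_top]
  have h1 := eq_of_apply_teichmuller_eq (p := p)
    ((Ideal.Quotient.mk (Ideal.span {(p : C)} ^ n)).comp ((fontaineTheta C p).comp (WittVector.map (adj g))))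
    ((Ideal.Quotient.mk (Ideal.span {(p : C)} ^ n)).comp g)
    ⟨n, by
      rw [← map_natCast (Ideal.Quotient.mk (Ideal.span {(p : C)} ^ n)), ← map_pow, Ideal.Quotient.eq_zero_iff_mem]
      exact Ideal.pow_mem_pow (Ideal.mem_span_singleton_self _) _⟩
    (fun b => by
      rw [RingHom.comp_apply, RingHom.comp_apply, RingHom.comp_apply, map_teichmuller, fontaineTheta_teichmuller,
        untilt_adj])
  have h2 := RingHom.congr_fun h1 x
  rw [SModEq.sub_mem]
  exact Ideal.Quotient.eq.mp h2

/-- Uniqueness. -/
theorem adj_unique (h : B →+* PreTilt C p) (hh : (fontaineTheta C p).comp (WittVector.map h) = g) : h = adj g := by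
  have key : ∀ b, untilt (h b) = g (teichmuller p b) := by
    intro b
    rw [← hh, RingHom.comp_apply, map_teichmuller, fontaineTheta_teichmuller]
  refine RingHom.ext fun b => ext_coeff fun n => ?_
  have h2 : ∀ n, (frobeniusEquiv (PreTilt C p) p).symm^[n] (h b) = h ((frobeniusEquiv B p).symm^[n] b) := by
    intro n
    induction n with
    | zero => rfl
    | succ n ih =>
      rw [Function.iterate_succ_apply', Function.iterate_succ_apply', ih, RingEquiv.symm_apply_eq,
        _root_.frobeniusEquiv_apply, frobenius_def, ← map_pow, frobeniusEquiv_symm_pow_p]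
  rw [coeff_adj, ← mk_rt]
  unfold rt
  rw [h2, key]

end adj

section map

variable {C : Type u} [CommRing C] {p : ℕ} [Fact p.Prime] [Fact (¬ IsUnit (p : C))]
  [IsAdicComplete (Ideal.span {(p : C)}) C]
  {C' : Type v} [CommRing C'] [Fact (¬ IsUnit (p : C'))] [IsAdicComplete (Ideal.span {(p : C')}) C']
  (i : C →+* C')

/-- Functoriality of the tilt. -/
noncomputable def mapT : PreTilt C p →+* PreTilt C' p := adj (i.comp (fontaineTheta C p))

theorem untilt_mapT (x : PreTilt C p) : untilt (mapT i x) = i (untilt x) := by
  unfold mapT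
  rw [untilt_adj, RingHom.comp_apply, fontaineTheta_teichmuller]

theorem theta_mapT : (fontaineTheta C' p).comp (WittVector.map (mapT i)) = i.comp (fontaineTheta C p) :=
  theta_adj _

theorem mapT_adj {B : Type*} [CommRing B] [CharP B p] [PerfectRing B p] (g : WittVector p B →+* C) :
    (mapT i).comp (adj g) = adj (i.comp g) := by
  refine adj_unique _ _ ?_
  refine RingHom.ext fun x => ?_
  have h1 : WittVector.map ((mapT i).comp (adj g)) x = WittVector.map (mapT i) (WittVector.map (adj g) x) := by
    ext n
    simp only [map_coeff, RingHom.comp_apply]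
  rw [RingHom.comp_apply, h1]
  have h2 := RingHom.congr_fun (theta_mapT i) (WittVector.map (adj g) x)
  rw [RingHom.comp_apply, RingHom.comp_apply] at h2
  have h3 := RingHom.congr_fun (theta_adj g) x
  rw [RingHom.comp_apply] at h3
  rw [h2, h3, RingHom.comp_apply]

theorem mapT_injective [IsDomain C] [IsDomain C'] (hi : Function.Injective i) :
    Function.Injective (mapT (p := p) i) := by
  rw [injective_iff_map_eq_zero]
  intro x hx
  have h1 := untilt_mapT i x
  rw [hx, untilt_zero] at h1
  exact (untilt_eq_zero_iff x).mp (hi (h1.symm.trans (map_zero i).symm))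

theorem isLocalHom_mapT [IsDomain C] [ValuationRing C] [IsDomain C'] [ValuationRing C'] [IsLocalHom i] :
    IsLocalHom (mapT (p := p) i) := ⟨fun x hx => by
  rw [TiltVal.isUnit_iff, untilt_mapT] at hx
  rw [TiltVal.isUnit_iff]
  exact isUnit_of_map_unit i _ hx⟩

end map

end K658.TiltTheta
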