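import Groth.Agent.EtDual.K148.Prim
import Groth.Agent.EtDual.K658.TiltTheta

/-!
# Untilting absolutely integrally closed valuation rings

`O` a perfect valuation domain of characteristic `p`, `ξ = [a] + p η` (`η` a unit), `a` not a unit, `O` complete for
`a`.  Then `𝕎 O / ξ` is a `p`-complete valuation domain, absolutely integrally closed if `O` is; its tilt is `O`.
-/

set_option autoImplicit false
universe u v

open Polynomial Groth.Agent.Flat2E.AIC1 PreTilt Ideal WittVector K148.Prim K658.TiltVal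

namespace K658.UntiltVal

section gen

variable {p : ℕ} [hp : Fact p.Prime] {O : Type u} [CommRing O]

/-- The Teichmüller map `O → 𝕎 O / ξ`. -/
noncomputable def sh (ξ : WittVector p O) : O →* WittVector p O ⧸ span {ξ} :=
  (Ideal.Quotient.mk (span {ξ})).toMonoidHom.comp (teichmuller p)

theorem sh_apply (ξ : WittVector p O) (x : O) : sh ξ x = Ideal.Quotient.mk (span {ξ}) (teichmuller p x) := rfl

theorem sh_zero (ξ : WittVector p O) : sh ξ 0 = 0 := by
  rw [sh_apply, WittVector.teichmuller_zero, map_zero]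

variable [CharP O p] [PerfectRing O p] {ξ : WittVector p O}

omit [CharP O p] [PerfectRing O p] in
theorem red_sh (x : O) : red ξ (sh ξ x) = Ideal.Quotient.mk _ x := by
  rw [sh_apply, red_mk, teichmuller_coeff_zero]

theorem red_eq_zero_iff (c : WittVector p O ⧸ span {ξ}) : red ξ c = 0 ↔ (p : WittVector p O ⧸ span {ξ}) ∣ c := by
  rw [← RingHom.mem_ker, ker_red, Ideal.mem_span_singleton]

theorem sh_coeff_zero (h : IsDist ξ) : Associated (sh ξ (ξ.coeff 0)) (p : WittVector p O ⧸ span {ξ}) := by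
  obtain ⟨η, hη, h1⟩ := h
  have h2 : Ideal.Quotient.mk (span {ξ}) ξ = 0 := Ideal.Quotient.eq_zero_iff_mem.mpr (mem_span_singleton_self ξ)
  have h3 : sh ξ (ξ.coeff 0) = - (p * Ideal.Quotient.mk (span {ξ}) η) := by
    rw [sh_apply, eq_neg_iff_add_eq_zero, ← map_natCast (Ideal.Quotient.mk (span {ξ})), ← map_mul, ← map_add, ← h1, h2]
  rw [h3]
  exact (Associated.neg_left_iff.mpr (associated_mul_unit_left _ _ (hη.map (Ideal.Quotient.mk (span {ξ})))))

theorem isUnit_of_red (h : IsDist ξ) (c : WittVector p O ⧸ span {ξ}) (hc : IsUnit (red ξ c)) : IsUnit c := by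
  have := isAdicComplete h
  obtain ⟨d, hd⟩ := hc.exists_right_inv
  obtain ⟨d, rfl⟩ := red_surjective d
  have h1 : c * d - 1 ∈ span {(p : WittVector p O ⧸ span {ξ})} := by
    rw [← ker_red, RingHom.mem_ker, map_sub, map_mul, hd, map_one, sub_self]
  have h3 := IsAdicComplete.le_jacobson_bot (Ideal.span {(p : WittVector p O ⧸ span {ξ})}) h1
  rw [Ideal.mem_jacobson_bot] at h3
  have h4 := h3 1
  rw [mul_one, sub_add_cancel] at h4
  exact isUnit_of_mul_isUnit_left h4

theorem not_isUnit_p (ha : ¬ IsUnit (ξ.coeff 0)) : ¬ IsUnit (p : WittVector p O ⧸ span {ξ}) := by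
  intro h
  have h1 := h.map (red ξ)
  rw [(red_eq_zero_iff _).mpr dvd_rfl, isUnit_zero_iff] at h1
  apply ha
  have h2 : (Ideal.Quotient.mk (span {ξ.coeff 0}) 1) = 0 := by rw [map_one, h1]
  rw [Ideal.Quotient.eq_zero_iff_mem, Ideal.mem_span_singleton] at h2
  exact isUnit_of_dvd_one h2

theorem symm_iterate_pow (b : O) (n : ℕ) : (frobeniusEquiv O p).symm^[n] (b ^ p ^ n) = b := by
  induction n with
  | zero => simp
  | succ n ih =>
    have h1 : (frobeniusEquiv O p).symm (b ^ p ^ (n + 1)) = b ^ p ^ n := by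
      rw [RingEquiv.symm_apply_eq, _root_.frobeniusEquiv_apply, frobenius_def, ← pow_mul, ← pow_succ]
    rw [Function.iterate_succ_apply, h1, ih]

theorem iterate_symm_pow (b : O) (n : ℕ) : ((frobeniusEquiv O p).symm^[n] b) ^ p ^ n = b :=
  iterate_frobeniusEquiv_symm_pow_p_pow O p b n

theorem dvd_symm_iterate (a b : O) (n : ℕ) : a ∣ (frobeniusEquiv O p).symm^[n] b ↔ a ^ p ^ n ∣ b := by
  constructor
  · intro h3
    conv_rhs => rw [← iterate_symm_pow (p := p) b n]
    exact pow_dvd_pow_of_dvd h3 _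
  · rintro ⟨c, hc⟩
    refine ⟨(frobeniusEquiv O p).symm^[n] c, ?_⟩
    rw [hc, iterate_map_mul, symm_iterate_pow]

/-- The tilt of `𝕎 O / ξ`. -/
theorem tilt_bijective [IsAdicComplete (span {ξ.coeff 0}) O]
    [Fact (¬ IsUnit (p : WittVector p O ⧸ span {ξ}))]
    [IsAdicComplete (span {(p : WittVector p O ⧸ span {ξ})}) (WittVector p O ⧸ span {ξ})] :
    Function.Bijective (TiltTheta.adj (C := WittVector p O ⧸ span {ξ}) (p := p) (Ideal.Quotient.mk (span {ξ}))) := by
  set a := ξ.coeff 0 with ha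
  set F := TiltTheta.adj (C := WittVector p O ⧸ span {ξ}) (p := p) (Ideal.Quotient.mk (span {ξ}))
  have hco : ∀ (n : ℕ) (b : O), PreTilt.coeff n (F b) = 0 ↔ a ^ p ^ n ∣ b := by
    intro n b
    rw [TiltTheta.coeff_adj, Ideal.Quotient.eq_zero_iff_mem, Ideal.mem_span_singleton]
    change _ ∣ sh ξ _ ↔ _
    rw [← red_eq_zero_iff, red_sh, Ideal.Quotient.eq_zero_iff_mem, Ideal.mem_span_singleton, ← ha, dvd_symm_iterate]
  constructor
  · rw [injective_iff_map_eq_zero]
    intro b hb
    refine IsHausdorff.haus (inferInstance : IsHausdorff (span {a}) O) _ fun n => ?_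
    rw [SModEq.sub_mem, sub_zero, smul_eq_mul, Ideal.mul_top, Ideal.span_singleton_pow, Ideal.mem_span_singleton]
    have h1 := (hco n b).mp (by rw [hb, map_zero])
    exact (pow_dvd_pow a (Nat.lt_pow_self hp.out.one_lt).le).trans h1
  · intro x
    -- lifts of the coefficients
    have h1 : ∀ n, ∃ y : O, PreTilt.coeff 0 (F y) = PreTilt.coeff n x := by
      intro n
      obtain ⟨c, hc⟩ := Ideal.Quotient.mk_surjective (PreTilt.coeff n x)
      obtain ⟨y, hy⟩ := Ideal.Quotient.mk_surjective (red ξ c)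
      refine ⟨y, ?_⟩
      rw [TiltTheta.coeff_adj, ← hc, Ideal.Quotient.eq, Ideal.mem_span_singleton, ← red_eq_zero_iff, map_sub, ← hy]
      change red ξ (sh ξ y) - _ = 0
      rw [red_sh, sub_self]
    choose y hy using h1
    have h2 : ∀ n, PreTilt.coeff n (F (y n ^ p ^ n)) = PreTilt.coeff n x := by
      intro n
      rw [← hy n, TiltTheta.coeff_adj, TiltTheta.coeff_adj, symm_iterate_pow]
      rfl
    have h3 : ∀ n, a ^ p ^ n ∣ y n ^ p ^ n - y (n + 1) ^ p ^ (n + 1) := by
      intro n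
      rw [← hco, map_sub, map_sub, sub_eq_zero, h2 n]
      have h4 := h2 (n + 1)
      rw [← PreTilt.coeff_pow_p (F _), h4, PreTilt.coeff_pow_p]
    have h4 : ∀ m n, m ≤ n → a ^ p ^ m ∣ y m ^ p ^ m - y n ^ p ^ n := by
      intro m n hmn
      induction n, hmn using Nat.le_induction with
      | base => rw [sub_self]; exact dvd_zero _
      | succ n hn ih =>
        have h5 := (pow_dvd_pow a (Nat.pow_le_pow_right hp.out.pos hn)).trans (h3 n)
        have h6 := dvd_add ih h5
        rwa [sub_add_sub_cancel] at h6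
    obtain ⟨z, hz⟩ := IsPrecomplete.prec (inferInstance : IsPrecomplete (span {a}) O)
      (f := fun n => y n ^ p ^ n) (by
        intro m n hmn
        rw [SModEq.sub_mem, smul_eq_mul, Ideal.mul_top, Ideal.span_singleton_pow, Ideal.mem_span_singleton]
        exact (pow_dvd_pow a (Nat.lt_pow_self hp.out.one_lt).le).trans (h4 m n hmn))
    refine ⟨z, ext_coeff fun n => ?_⟩
    have h5 := hz (p ^ n)
    rw [SModEq.sub_mem, smul_eq_mul, Ideal.mul_top, Ideal.span_singleton_pow, Ideal.mem_span_singleton] at h5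
    have h6 : a ^ p ^ n ∣ y n ^ p ^ n - z := by
      have h7 := dvd_add (h4 n (p ^ n) (Nat.lt_pow_self hp.out.one_lt).le) h5
      rwa [sub_add_sub_cancel] at h7
    rw [← hco, map_sub, map_sub, sub_eq_zero, h2] at h6
    exact h6.symm

end gen

section val

variable {p : ℕ} [hp : Fact p.Prime] {O : Type u} [CommRing O] [IsDomain O] [ValuationRing O] [CharP O p]
  [PerfectRing O p] {ξ : WittVector p O} (h : IsDist ξ) (ha : ¬ IsUnit (ξ.coeff 0))

include h ha

theorem isUnit_one_sub (t : O) (ht : ¬ IsUnit t) (c : WittVector p O ⧸ span {ξ}) : IsUnit (1 - sh ξ t * c) := by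
  apply isUnit_of_red h
  obtain ⟨d, hd⟩ := Ideal.Quotient.mk_surjective (red ξ c)
  rw [map_sub, map_one, map_mul, red_sh, ← hd, ← map_mul, ← map_one (Ideal.Quotient.mk _), ← map_sub]
  refine IsUnit.map _ ?_
  have h1 : t * d ∈ IsLocalRing.maximalIdeal O :=
    Ideal.mul_mem_right _ _ ((IsLocalRing.mem_maximalIdeal t).mpr ht)
  by_contra h2
  have h3 := (IsLocalRing.maximalIdeal O).add_mem ((IsLocalRing.mem_maximalIdeal _).mpr h2) h1
  rw [sub_add_cancel] at h3
  exact (IsLocalRing.mem_maximalIdeal _).mp h3 isUnit_one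

theorem exists_eq_mul_unit (c : WittVector p O ⧸ span {ξ}) (hc : c ≠ 0) :
    ∃ (x : O) (w : WittVector p O ⧸ span {ξ}), IsUnit w ∧ c = sh ξ x * w := by
  classical
  have hcomp := isAdicComplete h
  obtain ⟨w0, hw0⟩ := sh_coeff_zero h
  set a := ξ.coeff 0 with haa
  -- the exact power of `p`
  have h1 : ∃ n, ¬ (p : WittVector p O ⧸ span {ξ}) ^ n ∣ c := by
    by_contra h2
    push Not at h2
    apply hc
    refine IsHausdorff.haus hcomp.toIsHausdorff _ fun n => ?_
    rw [SModEq.sub_mem, sub_zero, smul_eq_mul, Ideal.mul_top, Ideal.span_singleton_pow, Ideal.mem_span_singleton]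
    exact h2 n
  obtain ⟨n, hn, hn1⟩ : ∃ n, (p : WittVector p O ⧸ span {ξ}) ^ n ∣ c ∧
      ¬ (p : WittVector p O ⧸ span {ξ}) ^ (n + 1) ∣ c := by
    rcases hN : Nat.find h1 with _ | n
    · exact absurd (Nat.find_spec h1) (by rw [hN, pow_zero]; exact not_not.mpr (one_dvd _))
    · exact ⟨n, by simpa using Nat.find_min h1 (m := n) (by omega), by rw [← hN]; exact Nat.find_spec h1⟩
  obtain ⟨c', rfl⟩ := hn
  have h2 : red ξ c' ≠ 0 := by
    intro h3
    rw [red_eq_zero_iff] at h3
    exact hn1 (by rw [pow_succ]; exact mul_dvd_mul_left _ h3)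
  obtain ⟨y, rfl⟩ := Ideal.Quotient.mk_surjective c'
  obtain ⟨z, hz⟩ := exists_eq_add y
  rw [red_mk] at h2
  set y0 := y.coeff 0
  have h3 : ¬ a ∣ y0 := by
    rwa [Ne, Ideal.Quotient.eq_zero_iff_mem, Ideal.mem_span_singleton] at h2
  obtain ⟨t, ht⟩ := (ValuationRing.dvd_total a y0).resolve_left h3
  have htu : ¬ IsUnit t := by
    intro h4
    apply h3
    rw [ht]
    exact (associated_mul_unit_left y0 t h4).dvd
  refine ⟨a ^ n * y0, w0 ^ n * (1 - sh ξ t * (- (w0 * Ideal.Quotient.mk (span {ξ}) z))), ?_, ?_⟩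
  · exact (w0.isUnit.pow n).mul (isUnit_one_sub h ha t htu _)
  · have h5 : Ideal.Quotient.mk (span {ξ}) y = sh ξ y0 + p * Ideal.Quotient.mk (span {ξ}) z := by
      conv_lhs => rw [hz]
      rw [map_add, map_mul, map_natCast, sh_apply]
    have h6 : (p : WittVector p O ⧸ span {ξ}) = sh ξ y0 * sh ξ t * w0 := by
      rw [← hw0, ht, map_mul]
    rw [h5, ← hw0, map_mul, map_pow]
    have h7 : sh ξ a = sh ξ y0 * sh ξ t := by rw [ht, map_mul]
    conv_lhs => rw [mul_pow, mul_add]
    have h8 : sh ξ a ^ n * ↑w0 ^ n * (sh ξ a * ↑w0 * Ideal.Quotient.mk (span {ξ}) z) =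
        sh ξ a ^ n * ↑w0 ^ n * (sh ξ y0 * sh ξ t * ↑w0 * Ideal.Quotient.mk (span {ξ}) z) := by
      rw [← h7]
    rw [h8]
    ring

variable [IsAdicComplete (span {ξ.coeff 0}) O]

theorem sh_eq_zero_iff (x : O) : sh ξ x = 0 ↔ x = 0 := by
  refine ⟨fun hx => ?_, fun hx => by rw [hx, sh_zero]⟩
  by_contra hx0
  set a := ξ.coeff 0 with haa
  obtain ⟨n, hn⟩ : ∃ n, x ∣ a ^ n := by
    by_contra h2
    push Not at h2
    apply hx0
    refine IsHausdorff.haus (inferInstance : IsHausdorff (span {a}) O) _ fun n => ?_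
    rw [SModEq.sub_mem, sub_zero, smul_eq_mul, Ideal.mul_top, Ideal.span_singleton_pow, Ideal.mem_span_singleton]
    exact (ValuationRing.dvd_total _ _).resolve_right (h2 n)
  have hnu := not_isUnit_p (ξ := ξ) ha
  rcases eq_or_ne a 0 with h0 | h0
  · -- `a = 0`
    have h3 : red ξ (sh ξ x) = 0 := by rw [hx, map_zero]
    rw [red_sh, ← haa, Ideal.Quotient.eq_zero_iff_mem, Ideal.mem_span_singleton, h0, zero_dvd_iff] at h3
    exact hx0 h3
  · have h3 : (p : WittVector p O ⧸ span {ξ}) ^ n = 0 := by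
      have h4 : sh ξ (a ^ n) = 0 := by
        obtain ⟨y, hy⟩ := hn
        rw [hy, map_mul, hx, zero_mul]
      obtain ⟨w, hw⟩ := sh_coeff_zero h
      rw [← hw, mul_pow, ← map_pow, ← haa, h4, zero_mul]
    have h5 : ∀ n, (p : WittVector p O ⧸ span {ξ}) ^ n = 0 → False := by
      intro n
      induction n with
      | zero =>
        intro h6
        rw [pow_zero] at h6
        apply hnu
        exact isUnit_of_dvd_one (by rw [h6]; exact dvd_zero _)
      | succ n ih =>
        intro h6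
        exact ih (eq_zero_of_p_mul (mem_nonZeroDivisors_of_ne_zero h0) _ (by rw [← pow_succ']; exact h6))
    exact h5 n h3

theorem dvd_iff (x y : O) : sh ξ x ∣ sh ξ y ↔ x ∣ y := by
  refine ⟨fun h1 => ?_, fun h1 => map_dvd _ h1⟩
  by_contra h2
  obtain ⟨t, ht⟩ := (ValuationRing.dvd_total x y).resolve_left h2
  have htu : ¬ IsUnit t := fun h4 => h2 (by rw [ht]; exact (associated_mul_unit_left y t h4).dvd)
  obtain ⟨c, hc⟩ := h1
  rw [ht, map_mul] at hc
  have h5 : sh ξ y * (1 - sh ξ t * c) = 0 := by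
    rw [mul_sub, mul_one, ← mul_assoc, ← hc, sub_self]
  rw [(isUnit_one_sub h ha t htu c).mul_left_eq_zero, sh_eq_zero_iff h ha] at h5
  exact h2 (by rw [h5]; exact dvd_zero _)

theorem isDomain : IsDomain (WittVector p O ⧸ span {ξ}) := by
  have hnt : Nontrivial (WittVector p O ⧸ span {ξ}) := by
    by_contra h1
    rw [not_nontrivial_iff_subsingleton] at h1
    exact not_isUnit_p (ξ := ξ) ha (isUnit_of_subsingleton _)
  have : NoZeroDivisors (WittVector p O ⧸ span {ξ}) := ⟨fun {c d} hcd => by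
    by_contra h1
    push Not at h1
    obtain ⟨x, w, hw, rfl⟩ := exists_eq_mul_unit h ha c h1.1
    obtain ⟨y, v, hv, rfl⟩ := exists_eq_mul_unit h ha d h1.2
    have h2 : sh ξ (x * y) * (w * v) = 0 := by
      rw [map_mul, ← hcd]
      ring
    rw [(hw.mul hv).mul_left_eq_zero, sh_eq_zero_iff h ha, mul_eq_zero] at h2
    rcases h2 with rfl | rfl
    · exact h1.1 (by rw [sh_zero, zero_mul])
    · exact h1.2 (by rw [sh_zero, zero_mul])⟩
  exact NoZeroDivisors.to_isDomain _

theorem valuationRing : letI := isDomain h ha; ValuationRing (WittVector p O ⧸ span {ξ}) := by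
  letI := isDomain h ha
  rw [ValuationRing.iff_dvd_total]
  refine ⟨fun c d => ?_⟩
  rcases eq_or_ne c 0 with rfl | hc
  · exact Or.inr (dvd_zero _)
  rcases eq_or_ne d 0 with rfl | hd
  · exact Or.inl (dvd_zero _)
  obtain ⟨x, w, hw, rfl⟩ := exists_eq_mul_unit h ha c hc
  obtain ⟨y, v, hv, rfl⟩ := exists_eq_mul_unit h ha d hd
  rw [hw.mul_right_dvd, hv.mul_right_dvd, hv.dvd_mul_right, hw.dvd_mul_right, dvd_iff h ha, dvd_iff h ha]
  exact ValuationRing.dvd_total _ _

theorem exists_pow_associated (hO : IsAIC O) (c : WittVector p O ⧸ span {ξ}) (n : ℕ) (hn : 0 < n) :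
    ∃ d : WittVector p O ⧸ span {ξ}, Associated (d ^ n) c := by
  rcases eq_or_ne c 0 with rfl | hc
  · exact ⟨0, by rw [zero_pow hn.ne']⟩
  obtain ⟨x, w, hw, rfl⟩ := exists_eq_mul_unit h ha c hc
  obtain ⟨z, rfl⟩ := exists_pow_eq hO x n hn
  refine ⟨sh ξ z, ?_⟩
  rw [map_pow]
  exact associated_mul_unit_right _ _ hw

/-- **Untilts of absolutely integrally closed valuation rings are absolutely integrally closed.** -/
theorem isAIC (hO : IsAIC O) : IsAIC (WittVector p O ⧸ span {ξ}) := by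
  have := isDomain h ha
  have := valuationRing h ha
  have := isAdicComplete h
  exact AicTransfer.aic_of_quotient_equiv hO (p : WittVector p O ⧸ span {ξ}) (ξ.coeff 0) ha (quotEquiv ξ)
    (exists_pow_associated h ha hO)

end val

end K658.UntiltVal
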