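import Groth.Agent.EtDual.K658.UntiltVal
import Groth.Agent.EtDual.K617.TauCov

/-!
# `B ↦ 𝕎 B / ξ` and `w`-adic coverings

* `isAicc_tilt`, `isAicc_untilt`: tilting and untilting preserve `IsAicc`;
* `points`: `Hom(𝕎 B / ξ, C) = {k : B → C♭ | θ (𝕎 k ξ) = 0}`;
* `tauCov_sharp`: if `f : B → B'` is a `ξ₀`-adic covering then `𝕎 B / ξ → 𝕎 B' / ξ` is a `p`-adic covering.
-/

set_option autoImplicit false
universe u v w

open Polynomial Groth.Agent.Flat2E.AIC1 PreTilt Ideal WittVector K148.Prim K658.TiltVal K617.VC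

namespace K658.SharpTau

theorem aic_iff (V : Type u) [CommRing V] : Curves.IsAIC V ↔ IsAIC V := by
  unfold Curves.IsAIC IsAIC
  simp only [Nat.pos_iff_ne_zero, IsRoot.def]

section points

variable {p : ℕ} [hp : Fact p.Prime] {B : Type u} [CommRing B] [CharP B p] [PerfectRing B p]
  {C : Type v} [CommRing C] [Fact (¬ IsUnit (p : C))] [IsAdicComplete (Ideal.span {(p : C)}) C]

/-- **Points of `𝕎 B / ξ`.** -/
noncomputable def points (ξ : WittVector p B) :
    (WittVector p B ⧸ span {ξ} →+* C) ≃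
      {k : B →+* PreTilt C p // fontaineTheta C p (WittVector.map k ξ) = 0} where
  toFun ψ := ⟨TiltTheta.adj (ψ.comp (Ideal.Quotient.mk _)), by
    have h1 := RingHom.congr_fun (TiltTheta.theta_adj (ψ.comp (Ideal.Quotient.mk (span {ξ})))) ξ
    rw [RingHom.comp_apply, RingHom.comp_apply,
      Ideal.Quotient.eq_zero_iff_mem.mpr (mem_span_singleton_self ξ), map_zero] at h1
    exact h1⟩
  invFun k := Ideal.Quotient.lift _ ((fontaineTheta C p).comp (WittVector.map k.1)) (by
    intro x hx
    obtain ⟨y, rfl⟩ := Ideal.mem_span_singleton.mp hx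
    rw [map_mul, RingHom.comp_apply, k.2, zero_mul])
  left_inv ψ := by
    refine Ideal.Quotient.ringHom_ext ?_
    refine RingHom.ext fun x => ?_
    rw [RingHom.comp_apply, Ideal.Quotient.lift_mk, TiltTheta.theta_adj]
  right_inv k := by
    apply Subtype.ext
    symm
    refine TiltTheta.adj_unique _ _ ?_
    refine RingHom.ext fun x => ?_
    rw [RingHom.comp_apply, RingHom.comp_apply (Ideal.Quotient.lift _ _ _), Ideal.Quotient.lift_mk,
      RingHom.comp_apply]

theorem points_apply (ξ : WittVector p B) (ψ : WittVector p B ⧸ span {ξ} →+* C) (b : B) :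
    untilt ((points ξ ψ).1 b) = ψ (UntiltVal.sh ξ b) := by
  change untilt (TiltTheta.adj _ b) = _
  rw [TiltTheta.untilt_adj]
  rfl

theorem theta_points (ξ : WittVector p B) (ψ : WittVector p B ⧸ span {ξ} →+* C) (x : WittVector p B) :
    fontaineTheta C p (WittVector.map (points ξ ψ).1 x) = ψ (Ideal.Quotient.mk _ x) :=
  RingHom.congr_fun (TiltTheta.theta_adj (ψ.comp (Ideal.Quotient.mk (span {ξ})))) x

/-- Functoriality in `B`. -/
theorem points_comp {B' : Type w} [CommRing B'] [CharP B' p] [PerfectRing B' p] (ξ : WittVector p B) (f : B →+* B')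
    (ψ : WittVector p B' ⧸ span {WittVector.map f ξ} →+* C) :
    (points ξ (ψ.comp (sharpMap ξ f))).1 = (points _ ψ).1.comp f := by
  symm
  refine TiltTheta.adj_unique _ _ ?_
  refine RingHom.ext fun x => ?_
  have h1 : WittVector.map ((points _ ψ).1.comp f) x = WittVector.map (points _ ψ).1 (WittVector.map f x) := by
    ext n
    simp only [map_coeff, RingHom.comp_apply]
  rw [RingHom.comp_apply, h1, theta_points, RingHom.comp_apply, RingHom.comp_apply, sharpMap_mk]

end points

section aicc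

variable {p : ℕ} [hp : Fact p.Prime]

theorem isAicc_untilt {O : Type u} [CommRing O] [CharP O p] [PerfectRing O p] {ξ : WittVector p O} (h : IsDist ξ)
    (ho : IsAicc O (ξ.coeff 0)) : IsAicc (WittVector p O ⧸ span {ξ}) (p : WittVector p O ⧸ span {ξ}) := by
  obtain ⟨_, _⟩ := ho.valuationRing
  have := ho.complete
  have h1 := UntiltVal.isDomain h ho.nonunit
  have h2 := UntiltVal.valuationRing h ho.nonunit
  exact ⟨h1, fun a b => ValuationRing.dvd_total a b,
    (aic_iff _).mpr (UntiltVal.isAIC h ho.nonunit ((aic_iff _).mp ho.aic)), UntiltVal.not_isUnit_p ho.nonunit,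
    isAdicComplete h⟩

theorem isAicc_tilt {C : Type u} [CommRing C] [Fact (¬ IsUnit (p : C))] [IsAdicComplete (Ideal.span {(p : C)}) C]
    (h : IsAicc C (p : C)) (a : PreTilt C p) (ha : Associated (untilt a) (p : C)) : IsAicc (PreTilt C p) a := by
  obtain ⟨_, _⟩ := h.valuationRing
  exact ⟨inferInstance, fun a b => ValuationRing.dvd_total a b, (aic_iff _).mpr (TiltVal.isAIC ((aic_iff _).mp h.aic)),
    not_isUnit a ha, TiltVal.isAdicComplete a ha⟩

theorem associated_of_isDist {C : Type u} [CommRing C] [Fact (¬ IsUnit (p : C))]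
    [IsAdicComplete (Ideal.span {(p : C)}) C] {ξ : WittVector p (PreTilt C p)} (h : IsDist ξ)
    (hξ : fontaineTheta C p ξ = 0) : Associated (untilt (ξ.coeff 0)) (p : C) := by
  obtain ⟨η, hη, h1⟩ := h
  exact TiltTheta.associated (ξ.coeff 0) hη.unit (by rw [IsUnit.unit_spec, ← h1]; exact hξ)

theorem perfectRing {V : Type u} [CommRing V] [IsDomain V] (hV : IsAIC V) [CharP V p] : PerfectRing V p :=
  ⟨frobenius_inj V p, fun x => by
    obtain ⟨y, hy⟩ := exists_pow_eq hV x p hp.out.pos
    exact ⟨y, hy⟩⟩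

variable {B B' : Type u} [CommRing B] [CommRing B']

/-- **`ξ₀`-adic coverings give `p`-adic coverings.** -/
theorem tauCov_sharp [CharP B p] [PerfectRing B p] (ξ : WittVector p B) (h : IsDist ξ) (f : B →+* B')
    (hf : TauCov (ξ.coeff 0) f) : TauCov (p : WittVector p B ⧸ span {ξ}) (sharpMap ξ f) := by
  intro V _ ψ hV
  rw [map_natCast] at hV
  have hpu : Fact (¬ IsUnit (p : V)) := ⟨hV.nonunit⟩
  have hcomp := hV.complete
  obtain ⟨hdom, hval⟩ := hV.valuationRing
  have hVaic : IsAIC V := (aic_iff _).mp hV.aic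
  -- the tilt
  set k : B →+* PreTilt V p := (points ξ ψ).1 with hk
  have hk0 : fontaineTheta V p (WittVector.map k ξ) = 0 := (points ξ ψ).2
  set ξ' : WittVector p (PreTilt V p) := WittVector.map k ξ with hξ'
  have hd' : IsDist ξ' := h.map k
  have hass := associated_of_isDist hd' hk0
  have hc0 : ξ'.coeff 0 = k (ξ.coeff 0) := map_coeff _ _ _
  have hO : IsAicc (PreTilt V p) (ξ'.coeff 0) := isAicc_tilt hV _ hass
  obtain ⟨V', _, i, ψ', hV', hi, hil, hc⟩ := hf (PreTilt V p) k (by rw [← hc0]; exact hO)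
  obtain ⟨hdom', hval'⟩ := hV'.valuationRing
  have hchar : CharP V' p := (i.charP_iff hi p).mp inferInstance
  have hperf : PerfectRing V' p := perfectRing ((aic_iff _).mp hV'.aic)
  -- its untilt
  set ξ'' : WittVector p V' := WittVector.map i ξ' with hξ''
  have hd'' : IsDist ξ'' := hd'.map i
  have hc0' : ξ''.coeff 0 = i (k (ξ.coeff 0)) := by rw [hξ'', map_coeff, hc0]
  have hV'' : IsAicc V' (ξ''.coeff 0) := by rw [hc0']; exact hV'
  have hU := isAicc_untilt hd'' hV''
  have hcompl : IsAdicComplete (span {ξ''.coeff 0}) V' := hV''.complete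
  have hcompl0 : IsAdicComplete (span {ξ'.coeff 0}) (PreTilt V p) := hO.complete
  -- `V` is the untilt of its tilt
  have hker : RingHom.ker (fontaineTheta V p) = span {ξ'} := by
    obtain ⟨η, hη, h1⟩ := hd'
    have h2 := TiltTheta.ker_eq (C := V) (p := p) (ξ'.coeff 0) hη.unit (by rw [IsUnit.unit_spec, ← h1]; exact hk0)
    rwa [IsUnit.unit_spec, ← h1] at h2
  let E : WittVector p (PreTilt V p) ⧸ span {ξ'} ≃+* V :=
    (Ideal.quotEquivOfEq hker.symm).trans (RingHom.quotientKerEquivOfSurjective (TiltTheta.surjective hVaic))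
  have hE : ∀ x, E (Ideal.Quotient.mk _ x) = fontaineTheta V p x := fun x => rfl
  let I : V →+* WittVector p V' ⧸ span {ξ''} := (sharpMap ξ' i).comp E.symm.toRingHom
  have hI : ∀ c, I (E c) = sharpMap ξ' i c := fun c => by
    change sharpMap ξ' i (E.symm (E c)) = _
    rw [E.symm_apply_apply]
  have hmap : WittVector.map ψ' (WittVector.map f ξ) = ξ'' := by
    rw [hξ'', hξ']
    ext n
    simp only [map_coeff]
    exact RingHom.congr_fun hc _
  let Ψ : WittVector p B' ⧸ span {WittVector.map f ξ} →+* WittVector p V' ⧸ span {ξ''} :=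
    Ideal.quotientMap _ (WittVector.map ψ') (by
      rw [Ideal.span_singleton_le_iff_mem, Ideal.mem_comap, hmap]
      exact Ideal.mem_span_singleton_self _)
  have hsh : ∀ (x : PreTilt V p) (w : WittVector p (PreTilt V p) ⧸ span {ξ'}),
      sharpMap ξ' i (UntiltVal.sh ξ' x * w) = UntiltVal.sh ξ'' (i x) * sharpMap ξ' i w := by
    intro x w
    rw [map_mul]
    congr 1
    rw [UntiltVal.sh_apply, sharpMap_mk, map_teichmuller]
    rfl
  refine ⟨_, inferInstance, I, Ψ, ?_, ?_, ⟨?_⟩, ?_⟩
  · rw [map_natCast, map_natCast]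
    exact hU
  · rw [injective_iff_map_eq_zero]
    intro c hc0
    obtain ⟨c, rfl⟩ := E.surjective c
    rw [hI] at hc0
    by_contra hne
    have hne' : c ≠ 0 := fun h3 => hne (by rw [h3, map_zero])
    obtain ⟨x, w, hw, rfl⟩ := UntiltVal.exists_eq_mul_unit hd' hO.nonunit c hne'
    rw [hsh, (hw.map _).mul_left_eq_zero, UntiltVal.sh_eq_zero_iff hd'' hV''.nonunit] at hc0
    have hx : x = 0 := hi (by rw [hc0, map_zero])
    exact hne' (by rw [hx, UntiltVal.sh_zero, zero_mul])
  · intro c hcu
    obtain ⟨c, rfl⟩ := E.surjective c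
    rw [hI] at hcu
    refine IsUnit.map E ?_
    rcases eq_or_ne c 0 with rfl | hne'
    · have hdU := hU.isDomain
      rw [map_zero, isUnit_zero_iff] at hcu
      exact absurd hcu zero_ne_one
    obtain ⟨x, w, hw, rfl⟩ := UntiltVal.exists_eq_mul_unit hd' hO.nonunit c hne'
    rw [hsh] at hcu
    have h3 : IsUnit (UntiltVal.sh ξ'' (i x)) := isUnit_of_mul_isUnit_left hcu
    rw [isUnit_iff_dvd_one, ← map_one (UntiltVal.sh ξ''), UntiltVal.dvd_iff hd'' hV''.nonunit,
      ← isUnit_iff_dvd_one] at h3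
    exact ((isUnit_of_map_unit i _ h3).map (UntiltVal.sh ξ')).mul hw
  · refine Ideal.Quotient.ringHom_ext (RingHom.ext fun x => ?_)
    rw [RingHom.comp_apply, RingHom.comp_apply, RingHom.comp_apply, RingHom.comp_apply, sharpMap_mk]
    change Ideal.Quotient.mk _ (WittVector.map ψ' (WittVector.map f x)) = _
    rw [← theta_points ξ ψ x, ← hE, hI, sharpMap_mk]
    congr 1
    ext n
    simp only [map_coeff]
    exact RingHom.congr_fun hc _

/-- The class-free form. -/
theorem tauCov_sharp' (hB0 : (p : B) = 0) (hB1 : Function.Bijective fun x : B => x ^ p) (ξ : WittVector p B)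
    (h : IsDist ξ) (f : B →+* B')
    (hf : TauCov (ξ.coeff 0) f) : TauCov (p : WittVector p B ⧸ span {ξ}) (sharpMap ξ f) := by
  intro V _ ψ hV
  have hdom := hV.isDomain
  have hnt : Nontrivial B := by
    by_contra h1
    rw [not_nontrivial_iff_subsingleton] at h1
    have h2 : Subsingleton (WittVector p B) := ⟨fun x y => by ext n; exact Subsingleton.elim _ _⟩
    have h3 : (1 : V) = 0 := by
      rw [← map_one ψ, ← map_zero ψ, ← map_one (Ideal.Quotient.mk _), ← map_zero (Ideal.Quotient.mk _)]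
      rw [Subsingleton.elim (1 : WittVector p B) 0]
    exact one_ne_zero h3
  have hchar : CharP B p := by
    have h1 := CharP.exists B
    obtain ⟨q, hq⟩ := h1
    have h2 : q ∣ p := (CharP.cast_eq_zero_iff B q p).mp hB0
    rcases (Nat.dvd_prime hp.out).mp h2 with rfl | rfl
    · exact absurd rfl (CharP.char_ne_one B 1)
    · exact hq
  have hperf : PerfectRing B p := ⟨hB1⟩
  exact tauCov_sharp ξ h f hf V ψ hV

end aicc

end K658.SharpTau
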