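import Groth.Agent.EtDual.K152.EndSh
import Groth.Agent.EtDual.K148.Perf
import Mathlib.FieldTheory.PerfectClosure

/-!
# The perfection `S = k[[X_1^(1/p^∞), …, X_d^(1/p^∞)]]`

* general facts on `PerfectClosure K p` for a ring `K` of characteristic `p`: `rt K p m a` is the `p^m`-th root of `a`;
  it is perfect, radicial over `K`, a domain if `K` is; a local ring integral over `K` if `K` is local; henselian and
  strictly henselian if `K` is;
* `S p k d`, `x p k d m i = X_i^(1/p^m)`, `res : S p k d →+* k`, `isUnit_iff`;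
* `IsDist (p - g)` for `g ∈ ([y_i])` in `𝕎 B`, `B` perfect local and `y_i` in the maximal ideal.
-/

set_option autoImplicit false
universe u v
open IsLocalRing Ideal WittVector K148.Prim K148.Perf

namespace K658.Soo

open Groth.Agent Groth.Agent.Etbase Groth.Agent.EtDual.K375.Tower

section general

variable (K : Type u) [CommRing K] (p : ℕ) [hp : Fact p.Prime] [CharP K p]

/-- The `p^m`-th root of `a`. -/
def rt (m : ℕ) (a : K) : PerfectClosure K p := PerfectClosure.mk K p (m, a)

theorem rt_zero (a : K) : rt K p 0 a = PerfectClosure.of K p a := rfl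

theorem rt_succ_pow (m : ℕ) (a : K) : rt K p (m + 1) a ^ p = rt K p m a := by
  unfold rt
  rw [PerfectClosure.mk_pow]
  exact PerfectClosure.mk_succ_pow K p m a

theorem rt_pow_pow (m n : ℕ) (a : K) : rt K p (m + n) a ^ p ^ n = rt K p m a := by
  induction n with
  | zero => rw [pow_zero, pow_one, add_zero]
  | succ n ih => rw [pow_succ', pow_mul, ← add_assoc, rt_succ_pow, ih]

theorem rt_pow (m : ℕ) (a : K) : rt K p m a ^ p ^ m = PerfectClosure.of K p a := by
  have h := rt_pow_pow K p 0 m a
  rwa [zero_add] at h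

theorem rt_pow_eq (m : ℕ) (a : K) (n : ℕ) : rt K p m (a ^ n) = rt K p m a ^ n := by
  unfold rt
  rw [PerfectClosure.mk_pow]

theorem exists_rt (s : PerfectClosure K p) : ∃ (m : ℕ) (a : K), s = rt K p m a := by
  obtain ⟨⟨m, a⟩, h⟩ := PerfectClosure.mk_surjective K p s
  exact ⟨m, a, h.symm⟩

theorem isRad : K152.RadInv.IsRad p (PerfectClosure.of K p) where
  zero := CharP.cast_eq_zero K p
  pow s := by
    obtain ⟨m, a, rfl⟩ := exists_rt K p s
    exact ⟨m, a, (rt_pow K p m a).symm⟩
  ker a ha := by
    rw [PerfectClosure.of_apply, PerfectClosure.zero_def, PerfectClosure.mk_eq_iff] at ha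
    obtain ⟨z, hz⟩ := ha
    simp only [zero_add, iterate_map_zero] at hz
    refine ⟨p ^ z, ?_⟩
    rw [← iterate_frobenius]
    exact hz

theorem isPerf : IsPerf p (PerfectClosure K p) := isPerf_of_charP

theorem of_injective [IsReduced K] : Function.Injective (PerfectClosure.of K p) := by
  rw [injective_iff_map_eq_zero]
  intro a ha
  exact ((isRad K p).ker a ha).eq_zero

instance isDomain [IsDomain K] : IsDomain (PerfectClosure K p) := by
  have hnt : Nontrivial (PerfectClosure K p) := inferInstance
  have : NoZeroDivisors (PerfectClosure K p) := ⟨fun {x y} hxy => by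
    obtain ⟨m, a, ha⟩ := (isRad K p).pow x
    obtain ⟨n, b, hb⟩ := (isRad K p).pow y
    have h1 : PerfectClosure.of K p (a ^ p ^ n * b ^ p ^ m) = 0 := by
      rw [map_mul, map_pow, map_pow, ha, hb, ← pow_mul, ← pow_mul, mul_comm (p ^ n), ← mul_pow, hxy,
        zero_pow (mul_ne_zero (pow_ne_zero _ hp.out.ne_zero) (pow_ne_zero _ hp.out.ne_zero))]
    have h2 := of_injective K p (h1.trans (map_zero _).symm)
    rcases mul_eq_zero.mp h2 with h3 | h3
    · left
      have h4 := eq_zero_of_pow_eq_zero h3
      rw [h4, map_zero] at ha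
      exact eq_zero_of_pow_eq_zero ha.symm
    · right
      have h4 := eq_zero_of_pow_eq_zero h3
      rw [h4, map_zero] at hb
      exact eq_zero_of_pow_eq_zero hb.symm⟩
  exact NoZeroDivisors.to_isDomain _

theorem isUnit_rt (m : ℕ) (a : K) : IsUnit (rt K p m a) ↔ IsUnit a := by
  rw [← isUnit_pow_iff (pow_ne_zero m hp.out.ne_zero), rt_pow]
  refine ⟨fun h => ?_, fun h => h.map _⟩
  obtain ⟨b, hb⟩ := h.exists_right_inv
  obtain ⟨n, c, hc⟩ := (isRad K p).pow b
  have h1 : PerfectClosure.of K p (a ^ p ^ n * c - 1) = 0 := by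
    rw [map_sub, map_mul, map_pow, hc, map_one, ← mul_pow, hb, one_pow, sub_self]
  have h2 : IsUnit (a ^ p ^ n * c) := by
    have h3 := ((isRad K p).ker _ h1).isUnit_add_one
    rwa [sub_add_cancel] at h3
  exact (isUnit_pow_iff (pow_ne_zero n hp.out.ne_zero)).mp (isUnit_of_mul_isUnit_left h2)

instance isLocalRing [IsLocalRing K] : IsLocalRing (PerfectClosure K p) := by
  have hnt : Nontrivial (PerfectClosure K p) := CharP.nontrivial_of_char_ne_one hp.out.ne_one
  refine IsLocalRing.of_nonunits_add fun x y hx hy => ?_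
  obtain ⟨m, a, rfl⟩ := exists_rt K p x
  obtain ⟨n, b, rfl⟩ := exists_rt K p y
  rw [mem_nonunits_iff, isUnit_rt] at hx hy
  rw [mem_nonunits_iff]
  intro h
  have h1 := h.pow (p ^ (m + n))
  rw [add_pow_char_pow] at h1
  have h2 : rt K p m a ^ p ^ (m + n) = PerfectClosure.of K p (a ^ p ^ n) := by
    rw [pow_add, pow_mul, rt_pow, map_pow]
  have h3 : rt K p n b ^ p ^ (m + n) = PerfectClosure.of K p (b ^ p ^ m) := by
    rw [add_comm, pow_add, pow_mul, rt_pow, map_pow]
  rw [h2, h3, ← map_add, ← rt_zero, isUnit_rt] at h1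
  have h4 : a ^ p ^ n ∈ maximalIdeal K :=
    Ideal.pow_mem_of_mem _ ((mem_maximalIdeal a).mpr hx) _ (pow_pos hp.out.pos n)
  have h5 : b ^ p ^ m ∈ maximalIdeal K :=
    Ideal.pow_mem_of_mem _ ((mem_maximalIdeal b).mpr hy) _ (pow_pos hp.out.pos m)
  exact (mem_maximalIdeal _).mp (add_mem h4 h5) h1

theorem rt_mem_maximalIdeal [IsLocalRing K] (m : ℕ) (a : K) (ha : a ∈ maximalIdeal K) :
    rt K p m a ∈ maximalIdeal (PerfectClosure K p) := by
  rw [mem_maximalIdeal, mem_nonunits_iff, isUnit_rt]
  exact ha

instance isLocalHom_of : IsLocalHom (PerfectClosure.of K p) :=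
  ⟨fun a ha => (isUnit_rt K p 0 a).mp ha⟩

theorem isIntegral : (PerfectClosure.of K p).IsIntegral := K152.RadInv.isIntegral (isRad K p)

theorem henselianLocalRing [HenselianLocalRing K] : HenselianLocalRing (PerfectClosure K p) := by
  letI : Algebra K (PerfectClosure K p) := (PerfectClosure.of K p).toAlgebra
  have h2 : Algebra.IsIntegral K (PerfectClosure K p) := ⟨isIntegral K p⟩
  exact Etrest.IntHens.henselianLocalRing_of_isIntegral K (PerfectClosure K p)

end general

section S

variable (p : ℕ) [hp : Fact p.Prime] (k : Type u) [Field k] [CharP k p] (d : ℕ)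

instance charP_mvPowerSeries : CharP (MvPowerSeries (Fin d) k) p :=
  charP_of_injective_ringHom (MvPowerSeries.C_injective (σ := Fin d) (R := k)) p

/-- `k[[X_1^(1/p^∞), …, X_d^(1/p^∞)]]` -/
abbrev S : Type u := PerfectClosure (MvPowerSeries (Fin d) k) p

/-- `X_i^(1/p^m)` -/
noncomputable def x (m : ℕ) (i : Fin d) : S p k d := rt _ p m (MvPowerSeries.X i)

theorem x_zero (i : Fin d) : x p k d 0 i = PerfectClosure.of _ p (MvPowerSeries.X i) := rfl

theorem x_pow_pow (m n : ℕ) (i : Fin d) : x p k d (m + n) i ^ p ^ n = x p k d m i := rt_pow_pow _ p m n _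

theorem x_pow (m : ℕ) (i : Fin d) : x p k d m i ^ p ^ m = x p k d 0 i := rt_pow _ p m _

theorem isRad_S : K152.RadInv.IsRad p (PerfectClosure.of (MvPowerSeries (Fin d) k) p) := isRad _ p

theorem isPerf_S : IsPerf p (S p k d) := isPerf _ p

omit [CharP k p] hp in
theorem maximalIdeal_eq_span : maximalIdeal (MvPowerSeries (Fin d) k) =
    Ideal.span (Set.range (MvPowerSeries.X : Fin d → MvPowerSeries (Fin d) k)) := by
  rw [CalgB.PowSerMap.maximalIdeal_eq, IsLocalRing.maximalIdeal_eq_bot, Ideal.map_bot, bot_sup_eq]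

theorem x_mem (m : ℕ) (i : Fin d) : x p k d m i ∈ maximalIdeal (S p k d) := by
  refine rt_mem_maximalIdeal _ p m _ ?_
  rw [maximalIdeal_eq_span]
  exact Ideal.subset_span ⟨i, rfl⟩

/-- The residue map. -/
noncomputable def res [PerfectRing k p] : S p k d →+* k :=
  PerfectClosure.lift (MvPowerSeries (Fin d) k) p k MvPowerSeries.constantCoeff

theorem res_of [PerfectRing k p] (a : MvPowerSeries (Fin d) k) :
    res p k d (PerfectClosure.of _ p a) = MvPowerSeries.constantCoeff a :=
  RingHom.congr_fun ((PerfectClosure.lift (MvPowerSeries (Fin d) k) p k).symm_apply_apply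
    MvPowerSeries.constantCoeff) a

theorem res_rt_pow [PerfectRing k p] (m : ℕ) (a : MvPowerSeries (Fin d) k) :
    res p k d (rt _ p m a) ^ p ^ m = MvPowerSeries.constantCoeff a := by
  rw [← map_pow, rt_pow, res_of]

theorem res_surjective [PerfectRing k p] : Function.Surjective (res p k d) := fun c =>
  ⟨PerfectClosure.of _ p (MvPowerSeries.C c), by rw [res_of, MvPowerSeries.constantCoeff_C]⟩

theorem isUnit_iff_res [PerfectRing k p] (s : S p k d) : IsUnit s ↔ res p k d s ≠ 0 := by
  obtain ⟨m, a, rfl⟩ := exists_rt _ p s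
  rw [isUnit_rt, MvPowerSeries.isUnit_iff_constantCoeff, isUnit_iff_ne_zero, ← res_rt_pow p k d m a, Ne,
    pow_eq_zero_iff (pow_ne_zero m hp.out.ne_zero)]

instance isLocalHom_res [PerfectRing k p] : IsLocalHom (res p k d) :=
  ⟨fun s hs => (isUnit_iff_res p k d s).mpr hs.ne_zero⟩

theorem ker_res [PerfectRing k p] : RingHom.ker (res p k d) = maximalIdeal (S p k d) := by
  ext s
  rw [RingHom.mem_ker, mem_maximalIdeal, mem_nonunits_iff, isUnit_iff_res, not_not]

theorem res_x [PerfectRing k p] (m : ℕ) (i : Fin d) : res p k d (x p k d m i) = 0 := by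
  rw [← RingHom.mem_ker, ker_res]
  exact x_mem p k d m i

/-- The Teichmüller-type section `k → S`. -/
noncomputable def sec : k →+* S p k d := (PerfectClosure.of _ p).comp MvPowerSeries.C

theorem res_sec [PerfectRing k p] (c : k) : res p k d (sec p k d c) = c := by
  unfold sec
  rw [RingHom.comp_apply, res_of, MvPowerSeries.constantCoeff_C]

theorem isSepClosed_residueField [PerfectRing k p] [IsSepClosed k] : IsSepClosed (ResidueField (S p k d)) := by
  let e : (S p k d ⧸ RingHom.ker (res p k d)) ≃+* k :=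
    RingHom.quotientKerEquivOfSurjective (res_surjective p k d)
  let e' : ResidueField (S p k d) ≃+* k :=
    (Ideal.quotEquivOfEq (ker_res p k d).symm).trans e
  exact Groth.Agent.S18140.isSepClosed_of_ringEquiv e'.symm

theorem henselianLocalRing_S [IsSepClosed k] : HenselianLocalRing (S p k d) := by
  have h := (K152.PuncPS.isStrictlyHenselian k d).1
  exact henselianLocalRing _ p

theorem isStrictlyHenselian_S [PerfectRing k p] [IsSepClosed k] : EtCoh.IsStrictlyHenselianLocalRing (S p k d) :=
  have h := henselianLocalRing_S p k d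
  ⟨h, isSepClosed_residueField p k d⟩

theorem zeroLocus_x : PrimeSpectrum.zeroLocus (Set.range (x p k d 0)) = {closedPoint (S p k d)} := by
  ext y
  constructor
  · intro hy
    refine PrimeSpectrum.ext (le_antisymm (le_maximalIdeal y.isPrime.ne_top) ?_)
    intro s hs
    obtain ⟨m, a, ha⟩ := (isRad_S p k d).pow s
    have h1 : a ∈ maximalIdeal (MvPowerSeries (Fin d) k) := by
      rw [mem_maximalIdeal, mem_nonunits_iff, ← isUnit_rt _ p 0 a, rt_zero, ha,
        isUnit_pow_iff (pow_ne_zero m hp.out.ne_zero)]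
      exact hs
    rw [maximalIdeal_eq_span] at h1
    have h2 : PerfectClosure.of _ p a ∈ y.asIdeal := by
      have h3 : Ideal.span (Set.range (MvPowerSeries.X : Fin d → MvPowerSeries (Fin d) k)) ≤
          y.asIdeal.comap (PerfectClosure.of _ p) := by
        rw [Ideal.span_le]
        rintro _ ⟨i, rfl⟩
        exact hy ⟨i, rfl⟩
      exact h3 h1
    rw [ha] at h2
    exact y.isPrime.mem_of_pow_mem _ h2
  · rintro rfl
    rintro _ ⟨i, rfl⟩
    exact x_mem p k d 0 i

end S

section dist

variable {p : ℕ} [hp : Fact p.Prime] {B : Type u} [CommRing B] (hB : IsPerf p B)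

include hB

/-- `ξ = p - g` is distinguished if `g` maps to zero in `𝕎 κ` for a local homomorphism `B → κ`. -/
theorem isDist_sub {κ : Type v} [CommRing κ] [CharP κ p] [Nontrivial κ] (r : B →+* κ) [IsLocalHom r]
    (g : WittVector p B) (hg : WittVector.map r g = 0) : IsDist ((p : WittVector p B) - g) := by
  rw [isDist_iff hB]
  refine isUnit_of_map_unit r _ ?_
  rw [← WittVector.map_coeff, map_sub, map_natCast, hg, sub_zero, coeff_p_one]
  exact isUnit_one

theorem coeff_zero_sub (g : WittVector p B) : ((p : WittVector p B) - g).coeff 0 = - g.coeff 0 := by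
  have h1 := map_sub (constantCoeff (p := p) (R := B)) (p : WittVector p B) g
  change ((p : WittVector p B) - g).coeff 0 = (p : WittVector p B).coeff 0 - g.coeff 0 at h1
  have h2 := coeff_zero_p_mul hB (1 : WittVector p B)
  rw [mul_one] at h2
  rw [h1, h2, zero_sub]

omit hB in
theorem map_eq_zero_of_mem {ι : Type*} {κ : Type v} [CommRing κ] (r : B →+* κ) (y : ι → B) (hy : ∀ i, r (y i) = 0)
    (g : WittVector p B) (hg : g ∈ span (Set.range fun i => teichmuller p (y i))) : WittVector.map r g = 0 := by
  have h1 : span (Set.range fun i => teichmuller p (y i)) ≤ RingHom.ker (WittVector.map r) := by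
    rw [span_le]
    rintro _ ⟨i, rfl⟩
    rw [SetLike.mem_coe, RingHom.mem_ker, map_teichmuller, hy, WittVector.teichmuller_zero]
  exact h1 hg

/-- The coefficient `ξ_0` of `ξ = p - g` lies in `(y_i)`. -/
theorem coeff_zero_mem {ι : Type*} (y : ι → B)
    (g : WittVector p B) (hg : g ∈ span (Set.range fun i => teichmuller p (y i))) :
    ((p : WittVector p B) - g).coeff 0 ∈ span (Set.range y) := by
  rw [coeff_zero_sub hB]
  apply neg_mem
  have h1 : span (Set.range fun i => teichmuller p (y i)) ≤
      (span (Set.range y)).comap (constantCoeff (p := p) (R := B)) := by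
    rw [span_le]
    rintro _ ⟨i, rfl⟩
    rw [SetLike.mem_coe, Ideal.mem_comap]
    change (teichmuller p (y i)).coeff 0 ∈ _
    rw [teichmuller_coeff_zero]
    exact subset_span ⟨i, rfl⟩
  exact h1 hg

omit hB in
/-- `p ∈ ([y_i])` in `𝕎 B / (p - g)`. -/
theorem p_mem {ι : Type*} (y : ι → B)
    (g : WittVector p B) (hg : g ∈ span (Set.range fun i => teichmuller p (y i))) :
    (p : WittVector p B ⧸ span {(p : WittVector p B) - g}) ∈
      span (Set.range fun i => Ideal.Quotient.mk (span {(p : WittVector p B) - g}) (teichmuller p (y i))) := by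
  have h1 : (p : WittVector p B ⧸ span {(p : WittVector p B) - g}) = Ideal.Quotient.mk _ g := by
    rw [← map_natCast (Ideal.Quotient.mk (span {(p : WittVector p B) - g})), Ideal.Quotient.eq]
    exact mem_span_singleton_self _
  have h2 : span (Set.range fun i => teichmuller p (y i)) ≤
      (span (Set.range fun i => Ideal.Quotient.mk (span {(p : WittVector p B) - g}) (teichmuller p (y i)))).comap
        (Ideal.Quotient.mk (span {(p : WittVector p B) - g})) := by
    rw [span_le]
    rintro _ ⟨i, rfl⟩
    exact subset_span ⟨i, rfl⟩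
  rw [h1]
  exact h2 hg

end dist

section main

variable (p : ℕ) [hp : Fact p.Prime] (k : Type u) [Field k] [CharP k p] [PerfectRing k p] (d : ℕ)
  (g : WittVector p (S p k d)) (hg : g ∈ span (Set.range fun i => teichmuller p (x p k d 0 i)))

include hg

/-- All facts on `ξ = p - g`, `g ∈ ([X_1], …, [X_d])`. -/
theorem isDist_S : IsDist ((p : WittVector p (S p k d)) - g) :=
  isDist_sub (isPerf_S p k d) (res p k d) g
    (map_eq_zero_of_mem (res p k d) (x p k d 0) (res_x p k d 0) g hg)

theorem coeff_zero_mem_S : ((p : WittVector p (S p k d)) - g).coeff 0 ∈ span (Set.range (x p k d 0)) :=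
  coeff_zero_mem (isPerf_S p k d) _ g hg

theorem coeff_zero_mem_maximalIdeal : ((p : WittVector p (S p k d)) - g).coeff 0 ∈ maximalIdeal (S p k d) := by
  have h1 : span (Set.range (x p k d 0)) ≤ maximalIdeal (S p k d) := by
    rw [span_le]
    rintro _ ⟨i, rfl⟩
    exact x_mem p k d 0 i
  exact h1 (coeff_zero_mem_S p k d g hg)

theorem p_mem_S : (p : WittVector p (S p k d) ⧸ span {(p : WittVector p (S p k d)) - g}) ∈
    span (Set.range fun i => Ideal.Quotient.mk (span {(p : WittVector p (S p k d)) - g})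
      (teichmuller p (x p k d 0 i))) := p_mem _ g hg

end main

end K658.Soo
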