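import Groth.Agent.Flat2E.AIC1
import Mathlib.RingTheory.AdicCompletion.Basic
import Mathlib.RingTheory.Valuation.ValuationRing
import Mathlib.Algebra.Polynomial.Reverse
import Mathlib.Algebra.Polynomial.Taylor
import Mathlib.Algebra.Polynomial.Div
import Mathlib.RingTheory.Polynomial.Basic
import Mathlib.RingTheory.LocalRing.MaximalIdeal.Basic

/-!
# Absolutely integrally closed valuation rings with the same reduction

`aic_of_quotient_equiv`: `A` an `α`-adically complete valuation domain with divisible value group, `B` an absolutely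
integrally closed valuation domain and `A / α ≃ B / β` (`α`, `β` not units) ⟹ `A` is absolutely integrally closed.
-/

set_option autoImplicit false

open Polynomial Groth.Agent.Flat2E.AIC1

namespace K658.AicTransfer

section root

variable {B : Type*} [CommRing B] [IsDomain B] [IsLocalRing B]

/-- A monic polynomial with a unit among its non-leading coefficients has a unit root. -/
theorem exists_unit_root (hB : IsAIC B) (N : ℕ) : ∀ (G : B[X]), G.Monic → G.natDegree = N →
    ∀ i < N, IsUnit (G.coeff i) → ∃ s : B, IsUnit s ∧ G.IsRoot s := by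
  induction N with
  | zero => intro G _ _ i hi; exact absurd hi (Nat.not_lt_zero i)
  | succ N ih =>
    intro G hG hN i hi hu
    obtain ⟨s, hs⟩ := hB G hG (by omega)
    by_cases hsu : IsUnit s
    · exact ⟨s, hsu, hs⟩
    have hsm : s ∈ IsLocalRing.maximalIdeal B := hsu
    let G' := G /ₘ (X - C s)
    have hGG : (X - C s) * G' = G := mul_divByMonic_eq_iff_isRoot.mpr hs
    have hG' : G'.Monic := by
      have h1 : ((X - C s) * G').Monic := by rw [hGG]; exact hG
      exact (monic_X_sub_C s).of_mul_monic_left h1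
    have hdeg : G'.natDegree = N := by
      have h1 := (monic_X_sub_C s).natDegree_mul hG'
      rw [hGG, natDegree_X_sub_C] at h1
      omega
    cases i with
    | zero =>
      exfalso
      have h1 : G.coeff 0 = -s * G'.coeff 0 := by
        rw [← hGG, mul_coeff_zero]; simp
      rw [h1] at hu
      exact (IsLocalRing.mem_maximalIdeal _).mp (Ideal.mul_mem_right _ _ ((Ideal.neg_mem_iff _).mpr hsm)) hu
    | succ i =>
      have h1 : G.coeff (i + 1) = G'.coeff i - s * G'.coeff (i + 1) := by
        rw [← hGG, sub_mul, coeff_sub, coeff_X_mul, coeff_C_mul]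
      have h2 : IsUnit (G'.coeff i) := by
        by_contra hc
        have h3 : G'.coeff i - s * G'.coeff (i + 1) ∈ IsLocalRing.maximalIdeal B :=
          Ideal.sub_mem _ hc (Ideal.mul_mem_right _ _ hsm)
        rw [← h1] at h3
        exact h3 hu
      obtain ⟨t, ht, ht'⟩ := ih G' hG' hdeg i (by omega) h2
      refine ⟨t, ht, ?_⟩
      rw [IsRoot.def, ← hGG, eval_mul, ht'.eq_zero, mul_zero]

/-- A polynomial with unit constant coefficient and another unit coefficient has a root. -/
theorem exists_root (hB : IsAIC B) (Q : B[X]) (h0 : IsUnit (Q.coeff 0)) (i : ℕ) (hi : 0 < i)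
    (hu : IsUnit (Q.coeff i)) : ∃ r : B, Q.IsRoot r := by
  have hN : i ≤ Q.natDegree := le_natDegree_of_ne_zero hu.ne_zero
  have ht : Q.natTrailingDegree = 0 := natTrailingDegree_eq_zero.mpr (Or.inr h0.ne_zero)
  obtain ⟨u, hu0⟩ := h0
  let G := C (↑u⁻¹ : B) * Q.reverse
  have hc : ∀ j, j ≤ Q.natDegree → G.coeff (Q.natDegree - j) = ↑u⁻¹ * Q.coeff j := by
    intro j hj
    rw [coeff_C_mul, coeff_reverse, revAt_le (Nat.sub_le _ _), Nat.sub_sub_self hj]
  have hdle : G.natDegree ≤ Q.natDegree := by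
    refine (natDegree_C_mul_le _ _).trans ?_
    rw [reverse_natDegree]
    exact Nat.sub_le _ _
  have htop : G.coeff Q.natDegree = 1 := by
    have := hc 0 (Nat.zero_le _)
    rw [Nat.sub_zero] at this
    rw [this, ← hu0, Units.inv_mul]
  have hG : G.Monic := monic_of_natDegree_le_of_coeff_eq_one _ hdle htop
  have hGd : G.natDegree = Q.natDegree :=
    le_antisymm hdle (le_natDegree_of_ne_zero (by rw [htop]; exact one_ne_zero))
  obtain ⟨s, ⟨v, rfl⟩, hs⟩ := exists_unit_root hB _ G hG hGd (Q.natDegree - i) (by omega)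
    (by rw [hc i hN]; exact (Units.isUnit u⁻¹).mul hu)
  refine ⟨↑v⁻¹, ?_⟩
  have h1 : eval (↑v : B) Q.reverse = 0 := by
    have h2 : eval (↑v : B) G = ↑u⁻¹ * eval (↑v : B) Q.reverse := by rw [eval_mul, eval_C]
    have h3 := hs.eq_zero
    rw [h2] at h3
    exact (Units.mul_right_eq_zero u⁻¹).mp h3
  let _ : Invertible (↑v⁻¹ : B) := ⟨↑v, by simp, by simp⟩
  have h4 := eval₂_reverse_eq_zero_iff (RingHom.id B) (↑v⁻¹ : B) Q
  exact h4.mp h1

end root

section transfer

variable {A B : Type*} [CommRing A] [IsDomain A] [ValuationRing A] [CommRing B] [IsDomain B] [IsLocalRing B]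

/-- One step of the approximation. -/
theorem exists_step (hB : IsAIC B) (α : A) (β : B) (hβ : ¬ IsUnit β)
    (e : A ⧸ Ideal.span {α} ≃+* B ⧸ Ideal.span {β})
    (hdiv : ∀ (b : A) (n : ℕ), 0 < n → ∃ c : A, Associated (c ^ n) b) (f : A[X]) (hf : f.Monic)
    (hd : 0 < f.natDegree) (x : A) (hx : f.eval x ≠ 0) :
    ∃ c r : A, f.eval x ∣ c ^ f.natDegree ∧ α * f.eval x ∣ f.eval (x + c * r) := by
  classical
  set d := f.natDegree with hdd
  let g := taylor x f
  have hg0 : g.coeff 0 = f.eval x := taylor_coeff_zero x f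
  have hgd : g.natDegree = d := natDegree_taylor f x
  have hgm : g.coeff d = 1 := by
    have h1 : g.Monic := by
      rw [Monic, leadingCoeff_taylor]; exact hf
    rw [← hgd]; exact h1
  set b0 := f.eval x with hb0
  -- the indices with `|b₀| ≤ |bᵢ|`
  let S := (Finset.Icc 1 d).filter fun i => g.coeff i ∣ b0
  have hdS : d ∈ S := by
    simp only [S, Finset.mem_filter, Finset.mem_Icc]
    exact ⟨⟨hd, le_rfl⟩, by rw [hgm]; exact one_dvd _⟩
  have hci : ∀ i ∈ S, ∃ c : A, Associated (g.coeff i * c ^ i) b0 := by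
    intro i hi
    simp only [S, Finset.mem_filter, Finset.mem_Icc] at hi
    obtain ⟨q, hq⟩ := hi.2
    obtain ⟨c, hc⟩ := hdiv q i (by omega)
    exact ⟨c, by rw [hq]; exact Associated.mul_left _ hc⟩
  choose! c hc using hci
  -- the smallest one
  obtain ⟨i₀, hi₀, hmin⟩ : ∃ i₀ ∈ S, ∀ i ∈ S, c i ∣ c i₀ := by
    have key : ∀ T : Finset ℕ, T ⊆ S → T.Nonempty → ∃ i₀ ∈ T, ∀ i ∈ T, c i ∣ c i₀ := by
      intro T
      induction T using Finset.induction_on with
      | empty => intro _ h; exact absurd h Finset.not_nonempty_empty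
      | insert j T hj ih =>
        intro hT _
        rcases T.eq_empty_or_nonempty with rfl | hne
        · exact ⟨j, by simp, by simp⟩
        · obtain ⟨i₀, h1, h2⟩ := ih ((Finset.subset_insert _ _).trans hT) hne
          rcases ValuationRing.dvd_total (c j) (c i₀) with h | h
          · exact ⟨i₀, Finset.mem_insert_of_mem h1, fun i hi => by
              rcases Finset.mem_insert.mp hi with rfl | hi
              · exact h
              · exact h2 i hi⟩
          · exact ⟨j, Finset.mem_insert_self _ _, fun i hi => by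
              rcases Finset.mem_insert.mp hi with rfl | hi
              · exact dvd_rfl
              · exact (h2 i hi).trans h⟩
    exact key S subset_rfl ⟨d, hdS⟩
  have hi₀' : 1 ≤ i₀ ∧ i₀ ≤ d := by
    simp only [S, Finset.mem_filter, Finset.mem_Icc] at hi₀
    exact hi₀.1
  set γ := c i₀ with hγ
  have hdvd : ∀ i, b0 ∣ g.coeff i * γ ^ i := by
    intro i
    rcases Nat.eq_zero_or_pos i with rfl | hi
    · rw [hg0]; exact dvd_mul_right _ _
    by_cases hid : i ≤ d
    · by_cases hiS : i ∈ S
      · exact (hc i hiS).symm.dvd.trans (mul_dvd_mul_left _ (pow_dvd_pow_of_dvd (hmin i hiS) i))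
      · have h1 : ¬ g.coeff i ∣ b0 := fun h => hiS (by
          simp only [S, Finset.mem_filter, Finset.mem_Icc]
          exact ⟨⟨hi, hid⟩, h⟩)
        exact ((ValuationRing.dvd_total (g.coeff i) b0).resolve_left h1).mul_right _
    · rw [coeff_eq_zero_of_natDegree_lt (by rw [hgd]; omega), zero_mul]
      exact dvd_zero _
  have hγd : b0 ∣ γ ^ d := by
    have := hdvd d
    rwa [hgm, one_mul] at this
  -- the reduced polynomial
  have hCd : C b0 ∣ g.comp (C γ * X) := by
    rw [C_dvd_iff_dvd_coeff]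
    intro i
    rw [comp_C_mul_X_coeff]
    exact hdvd i
  obtain ⟨h, hh⟩ := hCd
  have hcoef : ∀ i, b0 * h.coeff i = g.coeff i * γ ^ i := by
    intro i
    rw [← comp_C_mul_X_coeff, hh, coeff_C_mul]
  have h0 : h.coeff 0 = 1 := by
    have := hcoef 0
    rw [hg0, pow_zero, mul_one] at this
    exact mul_left_cancel₀ hx (by rw [this, mul_one])
  have hiu : IsUnit (h.coeff i₀) := by
    have h1 := hcoef i₀
    have h2 := hc i₀ hi₀
    rw [← hγ, ← h1] at h2
    obtain ⟨u, hu⟩ := h2
    have h3 : h.coeff i₀ * u = 1 := mul_left_cancel₀ hx (by rw [← mul_assoc, hu, mul_one])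
    exact IsUnit.of_mul_eq_one _ h3
  have heval : ∀ t, b0 * h.eval t = f.eval (x + γ * t) := by
    intro t
    have h1 : eval t (g.comp (C γ * X)) = eval t (C b0 * h) := by rw [hh]
    rw [eval_comp, eval_mul, eval_mul, eval_C, eval_C, eval_X] at h1
    rw [← h1]
    simp only [g, taylor_eval]
    rw [add_comm]
  -- the lift to `B`
  let φ : A →+* B ⧸ Ideal.span {β} := e.toRingHom.comp (Ideal.Quotient.mk _)
  have hφs : Function.Surjective φ := e.surjective.comp Ideal.Quotient.mk_surjective
  have hφk : ∀ y, φ y = 0 → α ∣ y := by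
    intro y hy
    have h1 : Ideal.Quotient.mk (Ideal.span {α}) y = 0 := e.injective (by rw [map_zero]; exact hy)
    rwa [Ideal.Quotient.eq_zero_iff_mem, Ideal.mem_span_singleton] at h1
  let ψ : B →+* B ⧸ Ideal.span {β} := Ideal.Quotient.mk _
  have hψs : Function.Surjective ψ := Ideal.Quotient.mk_surjective
  have hψu : ∀ y, IsUnit (ψ y) → IsUnit y := by
    intro y hy
    obtain ⟨z, hz⟩ := hy.exists_right_inv
    obtain ⟨z, rfl⟩ := hψs z
    rw [← map_mul, ← map_one ψ, Ideal.Quotient.eq, Ideal.mem_span_singleton] at hz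
    obtain ⟨w, hw⟩ := hz
    by_contra hy'
    have h1 : y * z - 1 ∈ IsLocalRing.maximalIdeal B := by
      rw [hw]; exact Ideal.mul_mem_right _ _ hβ
    have h2 : (1 : B) ∈ IsLocalRing.maximalIdeal B := by
      have h3 := Ideal.sub_mem _ (Ideal.mul_mem_right z _ (show y ∈ IsLocalRing.maximalIdeal B from hy')) h1
      simpa using h3
    exact h2 isUnit_one
  obtain ⟨Q, hQ⟩ := Polynomial.map_surjective ψ hψs (h.map φ)
  have hQc : ∀ i, ψ (Q.coeff i) = φ (h.coeff i) := by
    intro i
    rw [← coeff_map, hQ, coeff_map]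
  obtain ⟨s, hs⟩ := exists_root hB Q (hψu _ (by rw [hQc, h0, map_one]; exact isUnit_one)) i₀ (by omega)
    (hψu _ (by rw [hQc]; exact hiu.map φ))
  obtain ⟨r, hr⟩ := hφs (ψ s)
  refine ⟨γ, r, hγd, ?_⟩
  have h1 : φ (h.eval r) = 0 := by
    rw [← eval₂_hom, ← eval_map, hr, ← hQ, eval_map, eval₂_hom, hs.eq_zero, map_zero]
  rw [← heval, mul_comm α]
  exact mul_dvd_mul_left _ (hφk _ h1)

/-- `c ^ d ∈ α ^ (d m)` implies `c ∈ α ^ m` in a valuation domain. -/
theorem pow_dvd_of_pow_dvd (c a : A) (d : ℕ) (hd : 0 < d) (h : a ^ d ∣ c ^ d) : a ∣ c := by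
  rcases ValuationRing.dvd_total a c with h1 | h1
  · exact h1
  obtain ⟨t, rfl⟩ := h1
  rcases eq_or_ne c 0 with rfl | hc
  · exact dvd_zero _
  obtain ⟨s, hs⟩ := h
  have h2 : t ^ d * s = 1 := by
    apply mul_left_cancel₀ (pow_ne_zero d hc)
    rw [mul_one, ← mul_assoc, ← mul_pow]
    exact hs.symm
  have h3 : IsUnit t := by
    have : IsUnit (t ^ d) := IsUnit.of_mul_eq_one _ h2
    exact (isUnit_pow_iff hd.ne').mp this
  obtain ⟨u, rfl⟩ := h3
  exact ⟨↑u⁻¹, by rw [mul_assoc, Units.mul_inv, mul_one]⟩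

/-- **Transfer of absolute integral closedness along an isomorphism of the reductions.** -/
theorem aic_of_quotient_equiv (hB : IsAIC B) (α : A) (β : B) (hβ : ¬ IsUnit β)
    [IsAdicComplete (Ideal.span {α}) A]
    (e : A ⧸ Ideal.span {α} ≃+* B ⧸ Ideal.span {β})
    (hdiv : ∀ (b : A) (n : ℕ), 0 < n → ∃ c : A, Associated (c ^ n) b) : IsAIC A := by
  intro f hf hd0
  have hd : 0 < f.natDegree := Nat.pos_of_ne_zero hd0
  by_contra hcon
  push Not at hcon
  have hne : ∀ x, f.eval x ≠ 0 := fun x hx => hcon x hx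
  choose c r h1 h2 using fun x => exists_step hB α β hβ e hdiv f hf hd x (hne x)
  let x : ℕ → A := fun n => Nat.rec 0 (fun _ y => y + c y * r y) n
  have hx : ∀ n, x (n + 1) = x n + c (x n) * r (x n) := fun n => rfl
  have hfx : ∀ n, α ^ n ∣ f.eval (x n) := by
    intro n
    induction n with
    | zero => rw [pow_zero]; exact one_dvd _
    | succ n ih =>
      rw [hx, pow_succ, mul_comm]
      exact (mul_dvd_mul_left α ih).trans (h2 (x n))
  have hstep : ∀ m n, f.natDegree * m ≤ n → α ^ m ∣ x (n + 1) - x n := by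
    intro m n hmn
    rw [hx, add_sub_cancel_left]
    refine Dvd.dvd.mul_right (pow_dvd_of_pow_dvd _ _ _ hd ?_) _
    rw [← pow_mul, mul_comm]
    exact (pow_dvd_pow α hmn).trans ((hfx n).trans (h1 (x n)))
  have hstep' : ∀ m n k, f.natDegree * m ≤ n → α ^ m ∣ x (n + k) - x n := by
    intro m n k hmn
    induction k with
    | zero => simp
    | succ k ih =>
      have h3 := dvd_add (hstep m (n + k) (by omega)) ih
      rwa [sub_add_sub_cancel] at h3
  obtain ⟨y, hy⟩ := IsPrecomplete.prec (inferInstance : IsPrecomplete (Ideal.span {α}) A)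
    (f := fun m => x (f.natDegree * m)) (by
      intro m n hmn
      rw [SModEq.sub_mem, smul_eq_mul, Ideal.mul_top, Ideal.span_singleton_pow, Ideal.mem_span_singleton]
      have h3 := hstep' m (f.natDegree * m) (f.natDegree * n - f.natDegree * m) le_rfl
      rw [Nat.add_sub_cancel' (Nat.mul_le_mul_left _ hmn)] at h3
      rw [← neg_sub]
      exact (dvd_neg).mpr h3)
  apply hne y
  refine IsHausdorff.haus (inferInstance : IsHausdorff (Ideal.span {α}) A) _ fun m => ?_
  rw [SModEq.sub_mem, sub_zero, smul_eq_mul, Ideal.mul_top, Ideal.span_singleton_pow, Ideal.mem_span_singleton]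
  have h3 := hy m
  rw [SModEq.sub_mem, smul_eq_mul, Ideal.mul_top, Ideal.span_singleton_pow, Ideal.mem_span_singleton] at h3
  have h4 : α ^ m ∣ f.eval (x (f.natDegree * m)) :=
    (pow_dvd_pow α (Nat.le_mul_of_pos_left m hd)).trans (hfx _)
  have h5 : α ^ m ∣ f.eval (x (f.natDegree * m)) - f.eval y := h3.trans (sub_dvd_eval_sub _ _ f)
  have h6 := dvd_sub h4 h5
  rwa [sub_sub_cancel] at h6

end transfer

end K658.AicTransfer
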