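import Groth.Agent.EtDual.K658.AicTransfer
import Mathlib.RingTheory.Perfectoid.FontaineTheta
import Mathlib.RingTheory.WittVector.Complete

/-!
# Tilting absolutely integrally closed valuation rings

`C` an absolutely integrally closed, `p`-adically complete valuation domain in which `p` is not a unit (`p = 0` is
allowed), `V = PreTilt C p`.  Then `untilt : V → C` is surjective, `V` is an absolutely integrally closed valuation
domain, complete for any `a` with `a♯` associated to `p`, and `𝕎 V / ξ = C`.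
-/

set_option autoImplicit false
universe u

open Polynomial Groth.Agent.Flat2E.AIC1 PreTilt Ideal

namespace K658.TiltVal

section seq

variable {C : Type u} [CommRing C] {p : ℕ} [Fact p.Prime] [Fact (¬ IsUnit (p : C))]
  [IsAdicComplete (Ideal.span {(p : C)}) C]

/-- The compatible system of `p`-power roots of `untilt x`. -/
noncomputable def rt (x : PreTilt C p) (n : ℕ) : C := untilt ((frobeniusEquiv (PreTilt C p) p).symm^[n] x)

theorem rt_zero (x : PreTilt C p) : rt x 0 = untilt x := rfl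

theorem rt_pow (x : PreTilt C p) (n : ℕ) : rt x n ^ p ^ n = untilt x :=
  untilt_iterate_frobeniusEquiv_symm_pow x n

theorem rt_succ (x : PreTilt C p) (n : ℕ) : rt x (n + 1) ^ p = rt x n := by
  have h := rt_pow ((frobeniusEquiv (PreTilt C p) p).symm^[n] x) 1
  rw [pow_one] at h
  change untilt ((frobeniusEquiv (PreTilt C p) p).symm^[n + 1] x) ^ p = _
  rw [Function.iterate_succ_apply']
  exact h

theorem rt_mul (x y : PreTilt C p) (n : ℕ) : rt (x * y) n = rt x n * rt y n := by
  unfold rt
  rw [← map_mul, iterate_map_mul]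

theorem mk_rt (x : PreTilt C p) (n : ℕ) : (Ideal.Quotient.mk (Ideal.span {(p : C)}) (rt x n) : ModP C p) =
    PreTilt.coeff n x := by
  unfold rt
  rw [mk_untilt_eq_coeff_zero, PreTilt.coeff_iterate_frobeniusEquiv_symm, zero_add]

/-- The element of the tilt defined by a compatible system of roots. -/
noncomputable def ofSeq (c : ℕ → C) (hc : ∀ n, c (n + 1) ^ p = c n) : PreTilt C p :=
  ⟨fun n => Ideal.Quotient.mk _ (c n), fun n => by rw [← map_pow, hc]⟩

theorem coeff_ofSeq (c : ℕ → C) (hc : ∀ n, c (n + 1) ^ p = c n) (n : ℕ) :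
    PreTilt.coeff n (ofSeq c hc) = (Ideal.Quotient.mk (Ideal.span {(p : C)}) (c n) : ModP C p) := rfl

theorem pow_eq_zero_idx (c : ℕ → C) (hc : ∀ n, c (n + 1) ^ p = c n) (n : ℕ) : c n ^ p ^ n = c 0 := by
  induction n with
  | zero => simp
  | succ n ih => rw [pow_succ', pow_mul, hc, ih]

theorem untilt_ofSeq (c : ℕ → C) (hc : ∀ n, c (n + 1) ^ p = c n) : untilt (ofSeq c hc) = c 0 :=
  Perfection.teichmuller_spec (I := Ideal.span {(p : C)}) (x := ofSeq c hc) fun n =>
    ⟨c n, rfl, by rw [pow_eq_zero_idx c hc]⟩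

theorem ext_coeff {x y : PreTilt C p} (h : ∀ n, PreTilt.coeff n x = PreTilt.coeff n y) : x = y :=
  Perfection.ext (p := p) h

theorem untilt_zero : untilt (0 : PreTilt C p) = 0 :=
  Perfection.teichmuller_zero

theorem nontrivial_tilt : Nontrivial (PreTilt C p) :=
  CharP.nontrivial_of_char_ne_one (Fact.out : p.Prime).ne_one

end seq

section domain

variable {C : Type u} [CommRing C] [IsDomain C] {p : ℕ} [Fact p.Prime] [Fact (¬ IsUnit (p : C))]
  [IsAdicComplete (Ideal.span {(p : C)}) C]

theorem untilt_eq_zero_iff (x : PreTilt C p) : untilt x = 0 ↔ x = 0 := by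
  refine ⟨fun h => ext_coeff fun n => ?_, fun h => by rw [h, untilt_zero]⟩
  have h1 : rt x n = 0 := by
    have h2 := rt_pow x n
    rw [h] at h2
    exact pow_eq_zero_iff (pow_ne_zero n (Fact.out : p.Prime).ne_zero) |>.mp h2
  rw [← mk_rt, h1, map_zero, map_zero]

instance isDomain : IsDomain (PreTilt C p) := by
  have : Nontrivial (PreTilt C p) := nontrivial_tilt
  have : NoZeroDivisors (PreTilt C p) := ⟨fun {x y} h => by
    rw [← untilt_eq_zero_iff, map_mul, mul_eq_zero] at h
    rwa [untilt_eq_zero_iff, untilt_eq_zero_iff] at h⟩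
  exact NoZeroDivisors.to_isDomain _

end domain

section val

variable {C : Type u} [CommRing C] [IsDomain C] [ValuationRing C] {p : ℕ} [Fact p.Prime] [Fact (¬ IsUnit (p : C))]
  [IsAdicComplete (Ideal.span {(p : C)}) C]

theorem dvd_iff (x y : PreTilt C p) : x ∣ y ↔ untilt x ∣ untilt y := by
  refine ⟨fun h => map_dvd _ h, fun h => ?_⟩
  rcases eq_or_ne x 0 with rfl | hx
  · rw [untilt_zero, zero_dvd_iff, untilt_eq_zero_iff] at h
    rw [h]
  have hx' : untilt x ≠ 0 := fun h => hx ((untilt_eq_zero_iff x).mp h)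
  have hrt : ∀ n, rt x n ≠ 0 := fun n h => hx' (by
    rw [← rt_pow x n, h, zero_pow (pow_ne_zero n (Fact.out : p.Prime).ne_zero)])
  have h1 : ∀ n, rt x n ∣ rt y n := fun n =>
    AicTransfer.pow_dvd_of_pow_dvd _ _ (p ^ n) (pow_pos (Fact.out : p.Prime).pos n) (by rw [rt_pow, rt_pow]; exact h)
  choose w hw using h1
  have hwp : ∀ n, w (n + 1) ^ p = w n := by
    intro n
    apply mul_left_cancel₀ (hrt n)
    rw [← hw n, ← rt_succ x, ← rt_succ y, hw (n + 1), mul_pow]
  refine ⟨ofSeq w hwp, ext_coeff fun n => ?_⟩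
  rw [map_mul, coeff_ofSeq, ← mk_rt, ← mk_rt, ← map_mul, hw]

theorem isUnit_iff (x : PreTilt C p) : IsUnit x ↔ IsUnit (untilt x) := by
  rw [isUnit_iff_dvd_one, isUnit_iff_dvd_one, dvd_iff, map_one]

instance valuationRing : ValuationRing (PreTilt C p) := by
  rw [ValuationRing.iff_dvd_total]
  exact ⟨fun x y => by
    rw [dvd_iff, dvd_iff]
    exact ValuationRing.dvd_total _ _⟩

end val

section aic

variable {C : Type u} [CommRing C] [IsDomain C] [ValuationRing C] {p : ℕ} [Fact p.Prime] [Fact (¬ IsUnit (p : C))]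
  [IsAdicComplete (Ideal.span {(p : C)}) C] (hC : IsAIC C)

include hC

omit [IsDomain C] [ValuationRing C] [Fact p.Prime] [Fact (¬ IsUnit (p : C))]
  [IsAdicComplete (Ideal.span {(p : C)}) C] in
/-- Roots. -/
theorem exists_pow_eq [Nontrivial C] (c : C) (n : ℕ) (hn : 0 < n) : ∃ d : C, d ^ n = c := by
  obtain ⟨d, hd⟩ := hC (X ^ n - Polynomial.C c) (monic_X_pow_sub_C c hn.ne')
    (by rw [natDegree_X_pow_sub_C]; exact hn.ne')
  refine ⟨d, ?_⟩
  rw [IsRoot.def, eval_sub, eval_pow, eval_X, eval_C, sub_eq_zero] at hd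
  exact hd

theorem untilt_surjective : Function.Surjective (untilt : PreTilt C p → C) := by
  intro c
  choose r hr using fun d : C => exists_pow_eq hC d p (Fact.out : p.Prime).pos
  let s : ℕ → C := fun n => Nat.rec c (fun _ y => r y) n
  exact ⟨ofSeq s fun n => hr _, untilt_ofSeq _ _⟩

theorem coeff_zero_surjective : Function.Surjective (PreTilt.coeff (O := C) (p := p) 0) := by
  intro x
  obtain ⟨c, rfl⟩ := Ideal.Quotient.mk_surjective x
  obtain ⟨y, rfl⟩ := untilt_surjective (p := p) hC c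
  exact ⟨y, (mk_untilt_eq_coeff_zero y).symm⟩

theorem frobenius_modP_surjective : Function.Surjective (frobenius (ModP C p) p) := by
  intro x
  obtain ⟨c, rfl⟩ := Ideal.Quotient.mk_surjective x
  obtain ⟨d, hd⟩ := exists_pow_eq hC c p (Fact.out : p.Prime).pos
  exact ⟨Ideal.Quotient.mk _ d, by rw [frobenius_def, ← map_pow, hd]⟩

/-- The value group of the tilt is divisible. -/
theorem exists_pow_associated (b : PreTilt C p) (n : ℕ) (hn : 0 < n) : ∃ c : PreTilt C p, Associated (c ^ n) b := by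
  obtain ⟨d, hd⟩ := exists_pow_eq hC (untilt b) n hn
  obtain ⟨z, rfl⟩ := untilt_surjective (p := p) hC d
  refine ⟨z, associated_of_dvd_dvd ?_ ?_⟩
  · rw [dvd_iff, map_pow, hd]
  · rw [dvd_iff, map_pow, hd]

/-- There is `a` with `a♯ = p`. -/
theorem exists_untilt_eq : ∃ a : PreTilt C p, untilt a = p := untilt_surjective hC _

end aic

section complete

variable {C : Type u} [CommRing C] [IsDomain C] [ValuationRing C] {p : ℕ} [Fact p.Prime] [Fact (¬ IsUnit (p : C))]
  [IsAdicComplete (Ideal.span {(p : C)}) C] (a : PreTilt C p) (ha : Associated (untilt a) (p : C))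

include ha

theorem not_isUnit : ¬ IsUnit a := by
  rw [isUnit_iff, ha.isUnit_iff]
  exact Fact.out

theorem coeff_zero_eq_zero_iff (x : PreTilt C p) : PreTilt.coeff 0 x = 0 ↔ a ∣ x := by
  rw [← mk_untilt_eq_coeff_zero, Ideal.Quotient.eq_zero_iff_mem, Ideal.mem_span_singleton, dvd_iff,
    ← ha.dvd_iff_dvd_left]

theorem coeff_eq_zero_iff (n : ℕ) (x : PreTilt C p) : PreTilt.coeff n x = 0 ↔ a ^ p ^ n ∣ x := by
  let F := frobeniusEquiv (PreTilt C p) p
  have h1 : PreTilt.coeff n x = PreTilt.coeff 0 (F.symm^[n] x) := by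
    rw [PreTilt.coeff_iterate_frobeniusEquiv_symm, zero_add]
  rw [h1, coeff_zero_eq_zero_iff a ha, dvd_iff]
  have h2 : rt x n ^ p ^ n = untilt x := rt_pow x n
  rw [dvd_iff (a ^ p ^ n) x, map_pow, ← h2]
  exact ⟨fun h => pow_dvd_pow_of_dvd h _, fun h =>
    AicTransfer.pow_dvd_of_pow_dvd _ _ _ (pow_pos (Fact.out : p.Prime).pos n) h⟩

/-- The tilt is `a`-adically complete. -/
theorem isAdicComplete : IsAdicComplete (Ideal.span {a}) (PreTilt C p) where
  haus' := by
    intro x hx
    refine ext_coeff fun n => ?_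
    have h1 := hx (p ^ n)
    rw [SModEq.sub_mem, sub_zero, smul_eq_mul, Ideal.mul_top, Ideal.span_singleton_pow,
      Ideal.mem_span_singleton] at h1
    rw [(coeff_eq_zero_iff a ha n x).mpr h1, map_zero]
  prec' := by
    intro f hf
    have hf' : ∀ {m n : ℕ}, m ≤ n → a ^ m ∣ f m - f n := by
      intro m n hmn
      have h1 := hf hmn
      rwa [SModEq.sub_mem, smul_eq_mul, Ideal.mul_top, Ideal.span_singleton_pow, Ideal.mem_span_singleton] at h1
    have hp : 1 < p := (Fact.out : p.Prime).one_lt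
    let y : PreTilt C p := ⟨fun n => PreTilt.coeff n (f (p ^ n)), fun n => by
      have h1 : PreTilt.coeff (n + 1) (f (p ^ (n + 1))) ^ p = PreTilt.coeff n (f (p ^ (n + 1))) :=
        PreTilt.coeff_pow_p _ _
      refine h1.trans ?_
      have h2 := (coeff_eq_zero_iff a ha n _).mpr (hf' (Nat.pow_le_pow_right hp.le (Nat.le_succ n)))
      rw [map_sub, sub_eq_zero] at h2
      exact h2.symm⟩
    refine ⟨y, fun m => ?_⟩
    rw [SModEq.sub_mem, smul_eq_mul, Ideal.mul_top, Ideal.span_singleton_pow, Ideal.mem_span_singleton]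
    have hm : m ≤ p ^ m := (Nat.lt_pow_self hp).le
    have h3 : a ^ p ^ m ∣ f (p ^ m) - y := by
      rw [← coeff_eq_zero_iff a ha, map_sub, sub_eq_zero]
      rfl
    have h4 := dvd_add (hf' hm) ((pow_dvd_pow a hm).trans h3)
    rwa [sub_add_sub_cancel] at h4

/-- `V / a = C / p`. -/
noncomputable def quotEquiv (hC : IsAIC C) : PreTilt C p ⧸ Ideal.span {a} ≃+* C ⧸ Ideal.span {(p : C)} :=
  (Ideal.quotEquivOfEq (by
    ext x
    rw [Ideal.mem_span_singleton, RingHom.mem_ker, coeff_zero_eq_zero_iff a ha])).trans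
    (RingHom.quotientKerEquivOfSurjective (f := PreTilt.coeff (O := C) (p := p) 0) (coeff_zero_surjective hC))

omit ha in
/-- **The tilt of an absolutely integrally closed complete valuation ring is absolutely integrally closed.** -/
theorem isAIC (hC : IsAIC C) : IsAIC (PreTilt C p) := by
  obtain ⟨a, ha⟩ := exists_untilt_eq (p := p) hC
  have ha' : Associated (untilt a) (p : C) := by rw [ha]
  have := isAdicComplete a ha'
  exact AicTransfer.aic_of_quotient_equiv hC a (p : C) Fact.out (quotEquiv a ha' hC) (exists_pow_associated hC)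

end complete

end K658.TiltVal
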